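import Groth.Agent.AntiAffLib.Basics2
import Groth.Agent.S10830

/-!
Dimension bookkeeping and powers of commutative homomorphisms.
-/

set_option autoImplicit false

noncomputable section

universe u v w

open CategoryTheory CategoryTheory.Limits MonoidalCategory CartesianMonoidalCategory MonObj AlgebraicGeometry

namespace WittGrpLib

theorem isMonHom_pow {C : Type w} [Category.{v} C] [CartesianMonoidalCategory C] [BraidedCategory C] {M N : C}
    [MonObj M] [MonObj N] [IsCommMonObj N] (m : ℕ) (f : M ⟶ N) [IsMonHom f] : IsMonHom (f ^ m) := by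
  induction m with
  | zero => rw [pow_zero, Hom.one_def]; infer_instance
  | succ m ih =>
    rw [pow_succ, Hom.mul_def]
    infer_instance

theorem quasiCompact_left {S : Scheme.{u}} {X Y : Over S} [QuasiCompact X.hom] [QuasiSeparated Y.hom] (f : X ⟶ Y) :
    QuasiCompact f.left := by
  haveI : QuasiCompact (f.left ≫ Y.hom) := by rw [Over.w]; infer_instance
  exact QuasiCompact.of_comp f.left Y.hom

theorem dim_lt {X : Type u} [TopologicalSpace X] {Y Z : Set X} (hY : IsClosed Y) (hYZ : Y ⊆ Z)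
    (hZ : IsIrreducible Z) (hne : Y ≠ Z) (hfin : topologicalKrullDim ↥Z ≠ ⊤) :
    topologicalKrullDim ↥Y < topologicalKrullDim ↥Z := by
  haveI : IrreducibleSpace ↥Z := Subtype.irreducibleSpace hZ
  let Y' : Set ↥Z := Subtype.val ⁻¹' Y
  have h := Groth.Agent.S10830.result ↥Z hfin Y' (hY.preimage continuous_subtype_val) fun h =>
    hne (hYZ.antisymm fun z hz => (h.symm ▸ Set.mem_univ (⟨z, hz⟩ : ↥Z) : (⟨z, hz⟩ : ↥Z) ∈ Y'))
  let e : ↥Y' ≃ₜ ↥Y :=
    { toFun := fun y => ⟨y.1.1, y.2⟩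
      invFun := fun y => ⟨⟨y.1, hYZ y.2⟩, y.2⟩
      left_inv := fun _ => rfl
      right_inv := fun _ => rfl
      continuous_toFun := (continuous_subtype_val.comp continuous_subtype_val).subtype_mk _
      continuous_invFun := (continuous_subtype_val.subtype_mk _).subtype_mk _ }
  rwa [e.isHomeomorph.topologicalKrullDim_eq] at h

theorem add_succ_le {a b : WithBot ℕ∞} {j n : ℕ} (h : a < b) (h' : b + (j : ℕ∞) ≤ (n : WithBot ℕ∞)) :
    a + ((j + 1 : ℕ) : ℕ∞) ≤ (n : WithBot ℕ∞) := by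
  rcases eq_or_ne a ⊥ with rfl | ha
  · rw [WithBot.bot_add]; exact bot_le
  obtain ⟨a, rfl⟩ := WithBot.ne_bot_iff_exists.1 ha
  obtain ⟨b, rfl⟩ := WithBot.ne_bot_iff_exists.1 (ne_bot_of_gt h)
  rw [← WithBot.coe_natCast, ← WithBot.coe_add, WithBot.coe_le_coe] at h' ⊢
  have h1 : a + 1 ≤ b := Order.add_one_le_of_lt (WithBot.coe_lt_coe.1 h)
  calc a + ((j + 1 : ℕ) : ℕ∞) = (a + 1) + (j : ℕ∞) := by push_cast; ring
    _ ≤ b + (j : ℕ∞) := add_le_add h1 le_rfl
    _ ≤ _ := h'

theorem not_add_succ_le {X : Type u} [TopologicalSpace X] {Z : Set X} (hZ : Z.Nonempty) {n : ℕ} :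
    ¬ topologicalKrullDim ↥Z + ((n + 1 : ℕ) : ℕ∞) ≤ (n : WithBot ℕ∞) := by
  intro h
  haveI : Nonempty ↥Z := hZ.to_subtype
  haveI : Nonempty (TopologicalSpace.IrreducibleCloseds ↥Z) :=
    ⟨⟨closure {Classical.arbitrary ↥Z}, isIrreducible_singleton.closure, isClosed_closure⟩⟩
  have h0 : (0 : WithBot ℕ∞) ≤ topologicalKrullDim ↥Z := Order.krullDim_nonneg
  have := (add_le_add_left h0 _).trans h
  rw [zero_add, ← WithBot.coe_natCast, WithBot.coe_le_coe, ENat.coe_le_coe] at this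
  omega

end WittGrpLib
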