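import Mathlib
import Groth.Prelude.Def_WittGrp
import Groth.Prelude.Def_AlgGrp

/-!
The Witt group schemes on points: relations between restriction, shift, Frobenius and the scalar endomorphisms.
-/

set_option autoImplicit false
set_option linter.style.haveILetI false
set_option backward.isDefEq.respectTransparency false

noncomputable section

universe u

open CategoryTheory CategoryTheory.Limits MonoidalCategory CartesianMonoidalCategory MonObj AlgebraicGeometry
open WittGrp

namespace WittGrpLib

variable {p : ℕ} [Fact p.Prime] {S : Scheme.{u}} {n m l : ℕ}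

/-- The point with given components. -/
def mkPt {T : Over S} (v : TruncatedWittVector p n Γ(T.left, ⊤)) : T ⟶ W p n S :=
  (ptsMul p T).symm (Multiplicative.ofAdd v)

@[simp]
theorem pts_mkPt {T : Over S} (v : TruncatedWittVector p n Γ(T.left, ⊤)) :
    pts p T (Additive.ofMul (mkPt v)) = v := by
  change Multiplicative.toAdd (ptsMul p T ((ptsMul p T).symm (Multiplicative.ofAdd v))) = v
  rw [MulEquiv.apply_symm_apply, toAdd_ofAdd]

theorem ext_pts {T : Over S} {x y : T ⟶ W p n S}
    (h : pts p T (Additive.ofMul x) = pts p T (Additive.ofMul y)) : x = y :=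
  pts_injective p T h

theorem ext_coord {T : Over S} {x y : T ⟶ W p n S}
    (h : ∀ i : Fin n, x.left.appTop (coord p i) = y.left.appTop (coord p i)) : x = y :=
  ext_pts (TruncatedWittVector.ext fun i => by rw [coeff_pts, coeff_pts, h])

theorem R_comp (h : n ≤ m) (h' : m ≤ l) : R p S h' ≫ R p S h = R p S (h.trans h') := by
  refine ext_pts ?_
  rw [pts_R, ← Category.id_comp (R p S h'), ← Category.id_comp (R p S (h.trans h')), pts_R, pts_R]
  exact TruncatedWittVector.ext fun i => by simp [TruncatedWittVector.coeff_truncate]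

theorem R_refl : R p S (le_refl n) = 𝟙 _ := by
  refine ext_pts ?_
  rw [← Category.id_comp (R p S (le_refl n)), pts_R]
  exact TruncatedWittVector.ext fun i => by simp [TruncatedWittVector.coeff_truncate]

theorem V_comp (h : n ≤ m) (h' : m ≤ l) : V p S h ≫ V p S h' = V p S (h.trans h') := by
  refine ext_pts ?_
  rw [pts_V, ← Category.id_comp (V p S h), ← Category.id_comp (V p S (h.trans h')), pts_V, pts_V]
  refine TruncatedWittVector.ext fun i => ?_
  simp only [coeff_shift]
  have := i.isLt
  by_cases hi : l - n ≤ (i : ℕ)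
  · rw [dif_pos (show l - m ≤ (i : ℕ) by omega), dif_pos (show m - n ≤ (i : ℕ) - (l - m) by omega), dif_pos hi]
    congr 1
    exact Fin.ext (by dsimp only; omega)
  · rw [dif_neg hi]
    split_ifs with h1 h2
    · omega
    · rfl
    · rfl

/-- Restriction commutes with shift. -/
theorem R_V {a b c d : ℕ} (hab : a ≤ b) (hac : a ≤ c) (hbd : b ≤ d) (hcd : c ≤ d) (he : c + b = a + d) :
    R p S hab ≫ V p S hac = V p S hbd ≫ R p S hcd := by
  refine ext_pts ?_
  rw [pts_V, ← Category.id_comp (R p S hab), pts_R, pts_R, ← Category.id_comp (V p S hbd), pts_V]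
  refine TruncatedWittVector.ext fun i => ?_
  simp only [coeff_shift, TruncatedWittVector.coeff_truncate, Fin.val_castLE]
  by_cases hi : c - a ≤ (i : ℕ)
  · rw [dif_pos hi, dif_pos (show d - b ≤ (i : ℕ) by omega)]
    congr 1
    exact Fin.ext (by simp only [Fin.val_castLE]; omega)
  · rw [dif_neg hi, dif_neg (show ¬ d - b ≤ (i : ℕ) by omega)]

theorem F_R (hp : (p : Γ(S, ⊤)) = 0) (h : n ≤ m) : F p m S hp ≫ R p S h = R p S h ≫ F p n S hp := by
  refine ext_pts ?_
  rw [pts_R, pts_F, ← Category.id_comp (F p m S hp), ← Category.id_comp (R p S h), pts_F, pts_R]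
  exact TruncatedWittVector.ext fun i => by simp [TruncatedWittVector.coeff_truncate, coeff_frob]

theorem F_V (hp : (p : Γ(S, ⊤)) = 0) (h : n ≤ m) : F p n S hp ≫ V p S h = V p S h ≫ F p m S hp := by
  refine ext_pts ?_
  rw [pts_V, pts_F, ← Category.id_comp (F p n S hp), ← Category.id_comp (V p S h), pts_F, pts_V]
  refine TruncatedWittVector.ext fun i => ?_
  simp only [coeff_shift, coeff_frob]
  split_ifs with hi
  · rfl
  · rw [zero_pow (Fact.out : p.Prime).ne_zero]

/-- The shift forgetting the last component, as an endomorphism. -/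
def VR (p : ℕ) [Fact p.Prime] (n : ℕ) (S : Scheme.{u}) : W p n S ⟶ W p n S :=
  V p S (Nat.le_add_right n 1) ≫ R p S (Nat.le_add_right n 1)

instance : IsMonHom (VR p n S) := by unfold VR; infer_instance

/-- A point of the base pulled back to a scheme over it. -/
def pull (T : Over S) (a : TruncatedWittVector p n Γ(S, ⊤)) : TruncatedWittVector p n Γ(T.left, ⊤) :=
  truncMap p n T.hom.appTop.hom a

theorem pull_comp {T T' : Over S} (g : T' ⟶ T) (a : TruncatedWittVector p n Γ(S, ⊤)) :
    truncMap p n g.left.appTop.hom (pull T a) = pull T' a := by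
  rw [pull, pull, ← Over.w g, Scheme.Hom.comp_appTop, CommRingCat.hom_comp, truncMap_comp, RingHom.comp_apply]

/-- Multiplication by a Witt vector of global functions of the base. -/
def mulC (a : TruncatedWittVector p n Γ(S, ⊤)) : W p n S ⟶ W p n S :=
  mkPt (pull (W p n S) a * pts p (W p n S) (Additive.ofMul (𝟙 _)))

theorem pts_mulC (a : TruncatedWittVector p n Γ(S, ⊤)) {T : Over S} (x : T ⟶ W p n S) :
    pts p T (Additive.ofMul (x ≫ mulC a)) = pull T a * pts p T (Additive.ofMul x) := by
  rw [pts_comp, mulC, pts_mkPt, map_mul, pull_comp, ← pts_comp, Category.comp_id]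

instance isMonHom_mulC (a : TruncatedWittVector p n Γ(S, ⊤)) : IsMonHom (mulC a) :=
  isMonHom_of_comp_mul _ (ext_pts (by rw [pts_mulC, pts_one, mul_zero]))
    (fun T x y => ext_pts (by rw [pts_mulC, pts_mul, pts_mul, pts_mulC, pts_mulC, mul_add]))

/-- Scalars commute with restriction. -/
theorem mulC_R (h : n ≤ m) (a : TruncatedWittVector p m Γ(S, ⊤)) :
    mulC a ≫ R p S h = R p S h ≫ mulC (TruncatedWittVector.truncate h a) := by
  refine ext_pts ?_
  rw [pts_R, pts_mulC, ← Category.id_comp (mulC a), pts_mulC, map_mul, ← Category.id_comp (R p S h), pts_R,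
    pull, pull, truncMap_truncateLE]

theorem shift_frob_mul {A : Type u} [CommRing A] (hA : (p : A) = 0) (a : TruncatedWittVector p (n + 1) A)
    (y : TruncatedWittVector p n A) :
    shift p (Nat.le_add_right n 1) (TruncatedWittVector.truncate (Nat.le_add_right n 1)
        (frob p (n + 1) hA a) * y) =
      a * shift p (Nat.le_add_right n 1) y := by
  rcases subsingleton_or_nontrivial A with hR | hR
  · exact TruncatedWittVector.ext fun i => Subsingleton.elim _ _
  haveI : CharP A p := (CharP.charP_iff_prime_eq_zero Fact.out).mpr hA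
  obtain ⟨X, rfl⟩ := WittVector.truncate_surjective p (n + 1) A a
  obtain ⟨Y, rfl⟩ := WittVector.truncate_surjective p n A y
  rw [frob_truncate, TruncatedWittVector.truncate_wittVector_truncate, ← map_mul, shift_truncate, shift_truncate,
    ← map_mul, Nat.add_sub_cancel_left, Function.iterate_one, mul_comm (WittVector.frobenius X),
    WittVector.verschiebung_mul_frobenius, mul_comm]

/-- Scalars commute with the shift up to the Frobenius twist. -/
theorem mulC_V (hp : (p : Γ(S, ⊤)) = 0) (a : TruncatedWittVector p (n + 1) Γ(S, ⊤)) :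
    mulC (TruncatedWittVector.truncate (Nat.le_add_right n 1) (frob p (n + 1) hp a)) ≫ V p S (Nat.le_add_right n 1) =
      V p S (Nat.le_add_right n 1) ≫ mulC a := by
  refine ext_pts ?_
  rw [pts_V, ← Category.id_comp (mulC _), pts_mulC, pts_mulC, ← Category.id_comp (V p S _), pts_V, pull, pull,
    truncMap_truncateLE, truncMap_frob p (n + 1) _ (natCast_eq_zero_of_over p hp _), shift_frob_mul]

/-- Scalars commute with the Frobenius up to twist. -/
theorem mulC_F (hp : (p : Γ(S, ⊤)) = 0) (a : TruncatedWittVector p n Γ(S, ⊤)) :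
    mulC a ≫ F p n S hp = F p n S hp ≫ mulC (frob p n hp a) := by
  refine ext_pts ?_
  rw [pts_F, pts_mulC, ← Category.id_comp (mulC a), pts_mulC, map_mul, ← Category.id_comp (F p n S hp), pts_F,
    pull, pull, truncMap_frob p n _ (natCast_eq_zero_of_over p hp _)]

/-- The shift is the kernel of the restriction. -/
theorem exists_V_of_R_eq_one (h : n ≤ m) (h' : l ≤ m) (he : l + n = m) {T : Over S} (x : T ⟶ W p m S)
    (hx : x ≫ R p S h = 1) : ∃ y : T ⟶ W p l S, y ≫ V p S h' = x := by
  have hz : ∀ i : Fin n, (pts p T (Additive.ofMul x)).coeff (i.castLE h) = 0 := fun i => by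
    rw [← TruncatedWittVector.coeff_truncate h, ← pts_R, hx, pts_one, TruncatedWittVector.coeff_zero]
  refine ⟨mkPt (TruncatedWittVector.mk p fun j : Fin l =>
    (pts p T (Additive.ofMul x)).coeff ⟨(j : ℕ) + (m - l), by omega⟩), ext_pts ?_⟩
  rw [pts_V, pts_mkPt]
  refine TruncatedWittVector.ext fun i => ?_
  rw [coeff_shift]
  split_ifs with hi
  · rw [TruncatedWittVector.coeff_mk]
    congr 1
    exact Fin.ext (by dsimp only; omega)
  · exact (hz ⟨i, by omega⟩).symm

theorem V_R_eq_one (h : n ≤ m) (h' : l ≤ m) (he : l + n ≤ m) : V p S h' ≫ R p S h = (1 : W p l S ⟶ W p n S) := by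
  refine ext_pts ?_
  rw [pts_R, ← Category.id_comp (V p S h'), pts_V, pts_one]
  refine TruncatedWittVector.ext fun i => ?_
  rw [TruncatedWittVector.coeff_truncate, coeff_shift, TruncatedWittVector.coeff_zero, dif_neg]
  simp only [Fin.val_castLE]
  omega

theorem cancel_V (h : n ≤ m) {T : Over S} {x y : T ⟶ W p n S} (e : x ≫ V p S h = y ≫ V p S h) : x = y := by
  refine ext_pts (TruncatedWittVector.ext fun i => ?_)
  have h1 := congrArg (fun z => (pts p T (Additive.ofMul z)).coeff (⟨(i : ℕ) + (m - n), by omega⟩ : Fin m)) e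
  simp only [pts_V, coeff_shift] at h1
  rw [dif_pos (Nat.le_add_left _ _), dif_pos (Nat.le_add_left _ _)] at h1
  simpa using h1

instance mono_V (h : n ≤ m) : Mono (V p S h) := ⟨fun _ _ e => cancel_V h e⟩

/-- Padding by zeros, a section of the restriction. -/
def sect (p : ℕ) [Fact p.Prime] (S : Scheme.{u}) (h : n ≤ m) : W p n S ⟶ W p m S :=
  mkPt (TruncatedWittVector.mk p fun i : Fin m =>
    if hi : (i : ℕ) < n then (W p n S).hom.appTop.hom 0 + coord p ⟨i, hi⟩ else 0)

theorem sect_R (h : n ≤ m) : sect p S h ≫ R p S h = 𝟙 _ := by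
  refine ext_pts ?_
  rw [pts_R, sect, pts_mkPt]
  refine TruncatedWittVector.ext fun i => ?_
  rw [TruncatedWittVector.coeff_truncate, TruncatedWittVector.coeff_mk, dif_pos (by simp), map_zero, zero_add,
    coeff_pts]
  simp

/-- Forgetting the first components, a retraction of the shift. -/
def retr (p : ℕ) [Fact p.Prime] (S : Scheme.{u}) (h : n ≤ m) : W p m S ⟶ W p n S :=
  mkPt (TruncatedWittVector.mk p fun i : Fin n => coord p (⟨(i : ℕ) + (m - n), by omega⟩ : Fin m))

theorem V_retr (h : n ≤ m) : V p S h ≫ retr p S h = 𝟙 _ := by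
  refine ext_pts ?_
  rw [pts_comp, retr, pts_mkPt]
  refine TruncatedWittVector.ext fun i => ?_
  rw [coeff_truncMap, TruncatedWittVector.coeff_mk]
  show (V p S h).left.appTop (coord p _) = _
  rw [← coeff_pts p (W p n S) (V p S h), ← Category.id_comp (V p S h), pts_V, coeff_shift,
    dif_pos (Nat.le_add_left _ _)]
  congr 1
  exact Fin.ext (by simp)

end WittGrpLib
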