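import Groth.Agent.WittGrpLib.Basic
import Groth.Agent.Unram17Lib.EtaleChartPullback

/-!
Geometry of the Witt group schemes: smoothness, the shift as a closed immersion, flatness of the restriction.
-/

set_option autoImplicit false
set_option linter.style.haveILetI false
set_option backward.isDefEq.respectTransparency false

noncomputable section

universe u

open CategoryTheory CategoryTheory.Limits MonoidalCategory CartesianMonoidalCategory MonObj AlgebraicGeometry
open WittGrp

namespace WittGrpLib

variable {p : ℕ} [Fact p.Prime] {S : Scheme.{u}} {n m l : ℕ}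

instance smooth_W : Smooth (W p n S).hom :=
  Unram17Lib.smooth_affineSpace_over (ULift.{u} (Fin n)) S

instance isAffineHom_W : IsAffineHom (W p n S).hom :=
  inferInstanceAs (IsAffineHom (𝔸(ULift.{u} (Fin n); S) ↘ S))

instance surjective_W : Surjective (W p n S).hom :=
  inferInstanceAs (Surjective (𝔸(ULift.{u} (Fin n); S) ↘ S))

theorem isAffine_W [IsAffine S] : IsAffine (W p n S).left :=
  inferInstanceAs (IsAffine 𝔸(ULift.{u} (Fin n); S))

theorem isClosedImmersion_V (h : n ≤ m) : IsClosedImmersion (V p S h).left := by
  haveI : IsSeparated (retr p S h).left := by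
    have : IsSeparated ((retr p S h).left ≫ (W p n S).hom) := by rw [Over.w]; infer_instance
    exact IsSeparated.of_comp (retr p S h).left (W p n S).hom
  haveI : IsClosedImmersion ((V p S h).left ≫ (retr p S h).left) := by
    rw [← Over.comp_left, V_retr]
    exact inferInstanceAs (IsClosedImmersion (𝟙 (W p n S).left))
  exact IsClosedImmersion.of_comp (V p S h).left (retr p S h).left

theorem isKernel_V_R (h : n ≤ m) (h' : l ≤ m) (he : l + n = m) :
    AlgGrp.IsKernel (V p S h') (R p S h) := by
  haveI := mono_V (p := p) (S := S) h'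
  have hl : ∀ s : PullbackCone (R p S h) η[W p n S], ∃ q : s.pt ⟶ W p l S, q ≫ V p S h' = s.fst := fun s =>
    exists_V_of_R_eq_one h h' he s.fst (by rw [s.condition, Hom.one_def, toUnit_unique s.snd (toUnit _)])
  refine ⟨⟨?_⟩, ⟨PullbackCone.IsLimit.mk _ (fun s => (hl s).choose)
    (fun s => (hl s).choose_spec) (fun s => toUnit_unique _ _)
    (fun s q hq _ => cancel_V h' (hq.trans (hl s).choose_spec.symm))⟩⟩
  rw [V_R_eq_one h h' (le_of_eq he), Hom.one_def]

/-- The Witt group of length `n + m` is, as a scheme, the product of those of length `n` and `m`. -/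
theorem exists_iso_prod (h : n ≤ m) (h' : l ≤ m) (he : l + n = m) :
    ∃ e : W p m S ≅ W p n S ⊗ W p l S, e.hom ≫ fst _ _ = R p S h ∧ e.hom ≫ snd _ _ = retr p S h' := by
  refine ⟨⟨lift (R p S h) (retr p S h'), mkPt (TruncatedWittVector.mk p fun i : Fin m =>
      if hi : (i : ℕ) < n then (pts p _ (Additive.ofMul (fst (W p n S) (W p l S)))).coeff ⟨i, hi⟩
      else (pts p _ (Additive.ofMul (snd (W p n S) (W p l S)))).coeff ⟨(i : ℕ) - n, by omega⟩), ?_, ?_⟩,
    lift_fst _ _, lift_snd _ _⟩
  · refine ext_pts (TruncatedWittVector.ext fun i => ?_)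
    rw [pts_comp, pts_mkPt, coeff_truncMap, TruncatedWittVector.coeff_mk]
    split_ifs with hi
    · rw [← coeff_truncMap p n, ← pts_comp, lift_fst, ← Category.id_comp (R p S h), pts_R,
        TruncatedWittVector.coeff_truncate]
      congr 1
    · rw [← coeff_truncMap p l, ← pts_comp, lift_snd, retr, pts_mkPt, TruncatedWittVector.coeff_mk, coeff_pts]
      have : ((⟨((⟨(i : ℕ) - n, by omega⟩ : Fin l) : ℕ) + (m - l), by dsimp only; omega⟩ : Fin m)) = i :=
        Fin.ext (by dsimp only; omega)
      rw [this]
      simp
  · refine CartesianMonoidalCategory.hom_ext _ _ ?_ ?_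
    · rw [Category.assoc, lift_fst, Category.id_comp]
      refine ext_pts (TruncatedWittVector.ext fun i => ?_)
      rw [pts_R, pts_mkPt, TruncatedWittVector.coeff_truncate, TruncatedWittVector.coeff_mk, dif_pos (by simp)]
      congr 1
    · rw [Category.assoc, lift_snd, Category.id_comp]
      refine ext_pts (TruncatedWittVector.ext fun i => ?_)
      rw [pts_comp, retr, pts_mkPt, coeff_truncMap, TruncatedWittVector.coeff_mk]
      show (mkPt _).left.appTop (coord p _) = _
      rw [← coeff_pts p, pts_mkPt, TruncatedWittVector.coeff_mk, dif_neg (by dsimp only; omega)]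
      congr 1
      exact Fin.ext (by dsimp only; omega)

theorem flat_surjective_R (h : n ≤ m) : Flat (R p S h).left ∧ Surjective (R p S h).left := by
  obtain ⟨e, he, -⟩ := exists_iso_prod (p := p) (S := S) h (Nat.sub_le m n) (Nat.sub_add_cancel h)
  haveI : Flat (W p (m - n) S).hom := inferInstance
  haveI h1 : Flat (fst (W p n S) (W p (m - n) S)).left := MorphismProperty.pullback_fst _ _ inferInstance
  haveI h2 : Surjective (fst (W p n S) (W p (m - n) S)).left := MorphismProperty.pullback_fst _ _ inferInstance
  rw [← he, Over.comp_left]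
  exact ⟨inferInstance, inferInstance⟩

end WittGrpLib
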