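import Mathlib
import Groth.Prelude.Def_WittGrp

/-!
Truncated Witt vectors over a perfect field of characteristic `p`.
-/

set_option autoImplicit false

noncomputable section

universe u

open WittGrp

namespace WittGrpLib

variable {p : ℕ} [Fact p.Prime] {k : Type u} [CommRing k] [CharP k p] {n : ℕ}

/-- The components of a multiple by a power of `p`. -/
theorem coeff_pow_nsmul (x : TruncatedWittVector p n k) (m : ℕ) (i : Fin n) :
    ((p ^ m) • x).coeff i = if m ≤ (i : ℕ) then x.coeff ⟨(i : ℕ) - m, by omega⟩ ^ p ^ m else 0 := by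
  obtain ⟨X, rfl⟩ := WittVector.truncate_surjective p n k x
  rw [← map_nsmul, WittVector.coeff_truncate, nsmul_eq_mul, mul_comm, Nat.cast_pow]
  split_ifs with h
  · conv_lhs => rw [show (i : ℕ) = ((i : ℕ) - m) + m by omega]
    rw [WittVector.mul_pow_charP_coeff_succ, WittVector.coeff_truncate]
  · exact WittVector.mul_pow_charP_coeff_zero X (by omega)

/-- Two vectors agreeing up to a place differ by one vanishing up to that place. -/
theorem coeff_sub_eq_zero {j : ℕ} {x y : TruncatedWittVector p n k}
    (h : ∀ i : Fin n, (i : ℕ) < j → x.coeff i = y.coeff i) (i : Fin n) (hi : (i : ℕ) < j) : (x - y).coeff i = 0 := by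
  have hle : min j n ≤ n := min_le_right _ _
  have he : TruncatedWittVector.truncate hle x = TruncatedWittVector.truncate hle y :=
    TruncatedWittVector.ext fun l => by
      rw [TruncatedWittVector.coeff_truncate, TruncatedWittVector.coeff_truncate]
      exact h _ (lt_of_lt_of_le l.isLt (min_le_left _ _))
  have h0 : TruncatedWittVector.truncate hle (x - y) = 0 := by rw [map_sub, he, sub_self]
  have := congrArg (fun v => v.coeff (⟨(i : ℕ), lt_min hi i.isLt⟩ : Fin (min j n))) h0
  simp only [TruncatedWittVector.coeff_truncate, TruncatedWittVector.coeff_zero] at this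
  exact this

/-- A subgroup containing vectors with any first component is everything. -/
theorem eq_top_of_coeff_zero [PerfectRing k p] (hn : 0 < n) (P : AddSubgroup (TruncatedWittVector p n k))
    (hP : ∀ c : k, ∃ x ∈ P, x.coeff ⟨0, hn⟩ = c) : P = ⊤ := by
  rw [eq_top_iff]
  intro y _
  suffices h : ∀ d : ℕ, ∀ y : TruncatedWittVector p n k, (∀ i : Fin n, (i : ℕ) + d < n → y.coeff i = 0) → y ∈ P from
    h n y fun i hi => absurd hi (by omega)
  intro d
  induction d with
  | zero =>
    intro y hy
    have : y = 0 := TruncatedWittVector.ext fun i => by rw [hy i (by simp), TruncatedWittVector.coeff_zero]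
    rw [this]
    exact P.zero_mem
  | succ d ih =>
    intro y hy
    by_cases hd : n ≤ d
    · exact ih y fun i hi => absurd hi (by omega)
    let i₀ : Fin n := ⟨n - (d + 1), by omega⟩
    obtain ⟨x, hx, hx0⟩ := hP ((iterateFrobeniusEquiv k p (n - (d + 1))).symm (y.coeff i₀))
    have hm : (p ^ (n - (d + 1))) • x ∈ P := P.nsmul_mem hx _
    have := ih (y - (p ^ (n - (d + 1))) • x) (fun i hi => by
      refine coeff_sub_eq_zero (j := n - d) (fun l hl => ?_) i (by omega)
      rw [coeff_pow_nsmul]
      split_ifs with h
      · have hl0 : l = i₀ := Fin.ext (by show (l : ℕ) = n - (d + 1); omega)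
        subst hl0
        rw [show (⟨((i₀ : Fin n) : ℕ) - (n - (d + 1)), by omega⟩ : Fin n) = ⟨0, hn⟩ from Fin.ext (by simp [i₀]), hx0,
          ← iterateFrobeniusEquiv_def (R := k), RingEquiv.apply_symm_apply]
      · exact hy l (by omega))
    simpa using P.add_mem this hm

/-- A vector killed by `p` has all but its last component zero. -/
theorem coeff_eq_zero_of_nsmul [IsReduced k] (x : TruncatedWittVector p n k) (h : p • x = 0) (i : Fin n)
    (hi : (i : ℕ) + 1 < n) : x.coeff i = 0 := by
  have h1 := congrArg (fun v => v.coeff (⟨(i : ℕ) + 1, hi⟩ : Fin n)) h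
  simp only [TruncatedWittVector.coeff_zero] at h1
  have h2 := coeff_pow_nsmul x 1 (⟨(i : ℕ) + 1, hi⟩ : Fin n)
  rw [if_pos (Nat.le_add_left _ _)] at h2
  simp only [pow_one, Nat.add_sub_cancel, Fin.eta] at h2
  rw [h2] at h1
  exact IsReduced.eq_zero _ ⟨p, h1⟩

/-- The subgroup of vectors with vanishing first component: those in the image of the shift. -/
theorem exists_shift {m : ℕ} (h : n ≤ m) (x : TruncatedWittVector p m k)
    (hx : ∀ i : Fin m, (i : ℕ) < m - n → x.coeff i = 0) : ∃ y : TruncatedWittVector p n k, shift p h y = x :=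
  ⟨TruncatedWittVector.mk p fun j : Fin n => x.coeff ⟨(j : ℕ) + (m - n), by omega⟩,
    TruncatedWittVector.ext fun i => by
      rw [coeff_shift]
      split_ifs with hi
      · rw [TruncatedWittVector.coeff_mk]
        congr 1
        exact Fin.ext (by dsimp only; omega)
      · exact (hx i (by omega)).symm⟩

end WittGrpLib
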