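import Groth.Agent.WittGrpLib.Points
import Groth.Agent.WittGrpLib.Vec
import Groth.Agent.GrpHomLib.Image
import Groth.Agent.CommSubLib.Main

/-!
Images of connected groups in Witt groups.
-/

set_option autoImplicit false
set_option linter.style.haveILetI false
set_option backward.isDefEq.respectTransparency false
set_option maxHeartbeats 1000000

noncomputable section

universe u

open CategoryTheory CategoryTheory.Limits MonoidalCategory CartesianMonoidalCategory MonObj AlgebraicGeometry
open WittGrp
open Groth.Agent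

namespace WittGrpLib

variable {p : ℕ} [Fact p.Prime] {k : Type u} [Field k] {n m : ℕ}

/-- The Witt group of length one is the affine line. -/
def lineIso : (W p 1 (Spec (CommRingCat.of k))).left ≅ Spec (CommRingCat.of (Polynomial k)) :=
  AffineSpace.SpecIso (ULift.{u} (Fin 1)) (CommRingCat.of k) ≪≫
    Scheme.Spec.mapIso (MvPolynomial.uniqueAlgEquiv k (ULift.{u} (Fin 1))).toRingEquiv.symm.toCommRingCatIso.op

/-- An irreducible closed subset of the line is everything or a point. -/
theorem eq_univ_or_subsingleton (Z : Set (W p 1 (Spec (CommRingCat.of k))).left) (hc : IsClosed Z)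
    (hi : IsIrreducible Z) : Z = Set.univ ∨ Z.Subsingleton := by
  let e : (W p 1 (Spec (CommRingCat.of k))).left ≃ₜ PrimeSpectrum (Polynomial k) :=
    TopCat.homeoOfIso (Scheme.forgetToTop.mapIso (lineIso (p := p) (k := k)))
  have hc' : IsClosed (e '' Z) := (Homeomorph.isClosed_image e).2 hc
  have hi' : IsIrreducible (e '' Z) := hi.image e e.continuous.continuousOn
  obtain ⟨z, hz⟩ := QuasiSober.sober hi' hc'
  by_cases hb : z.asIdeal = ⊥
  · left
    have : e '' Z = Set.univ := by
      rw [← hz.def, ← PrimeSpectrum.zeroLocus_vanishingIdeal_eq_closure, PrimeSpectrum.vanishingIdeal_singleton,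
        hb, Submodule.bot_coe, PrimeSpectrum.zeroLocus_singleton_zero]
    rw [← e.preimage_image Z, this, Set.preimage_univ]
  · right
    have hzm : z.asIdeal.IsMaximal := z.isPrime.isMaximal hb
    have : e '' Z = {z} := by
      rw [← hz.def, ((PrimeSpectrum.isClosed_singleton_iff_isMaximal z).2 hzm).closure_eq]
    exact fun a ha b hb => e.injective ((this ▸ Set.mem_image_of_mem e ha : e a ∈ ({z} : Set _)).trans
      (this ▸ Set.mem_image_of_mem e hb : e b ∈ ({z} : Set _)).symm)

variable [IsAlgClosed k]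

/-- A homomorphism from a connected group into the line is trivial or surjective. -/
theorem surjective_of_ne_one {A : Over (Spec (CommRingCat.of k))} [GrpObj A] [Smooth A.hom] [QuasiCompact A.hom]
    [ConnectedSpace A.left] (f : A ⟶ W p 1 (Spec (CommRingCat.of k))) [IsMonHom f] (hf : f ≠ 1) :
    Surjective f.left := by
  haveI : IsReduced A.left := AlgSpLib.isReduced_of_smooth A.hom
  haveI : QuasiCompact f.left := by
    haveI : QuasiCompact (f.left ≫ (W p 1 (Spec (CommRingCat.of k))).hom) := by rw [Over.w]; infer_instance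
    exact QuasiCompact.of_comp f.left (W p 1 (Spec (CommRingCat.of k))).hom
  haveI := CommSubLib.geometricallyIrreducible_of_connected A
  haveI : IrreducibleSpace A.left :=
    GeometricallyIrreducible.geometrically_irreducibleSpace (f := A.hom) (𝟙 _) (𝟙 _) A.hom
      (IsPullback.of_id_fst)
  have hc : IsClosed (Set.range f.left) := GrpHom.isClosed_range f
  have hi : IsIrreducible (Set.range f.left) := by
    rw [← Set.image_univ]
    exact (IrreducibleSpace.isIrreducible_univ A.left).image _ f.left.continuous.continuousOn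
  rcases eq_univ_or_subsingleton _ hc hi with h | h
  · exact ⟨Set.range_eq_univ.1 h⟩
  · refine absurd ?_ hf
    refine hom_ext_ev fun a => congrArg ev ?_
    rw [MonObj.comp_one]
    refine Over.OverMorphism.ext (ext_of_apply_closedPoint_eq (W p 1 (Spec (CommRingCat.of k))).hom
      (Over.w (a ≫ f)) (Over.w _) ?_)
    have h1 : (1 : 𝟙_ (Over (Spec (CommRingCat.of k))) ⟶ W p 1 (Spec (CommRingCat.of k))) = 1 ≫ f :=
      (MonObj.one_comp f).symm
    rw [h1, Over.comp_left, Over.comp_left, Scheme.Hom.comp_apply, Scheme.Hom.comp_apply]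
    exact h ⟨_, rfl⟩ ⟨_, rfl⟩

/-- The vectors of the rational points of a group mapping to a Witt group. -/
def ptsImage {A : Over (Spec (CommRingCat.of k))} [GrpObj A] (f : A ⟶ W p n (Spec (CommRingCat.of k)))
    [IsMonHom f] : AddSubgroup (TruncatedWittVector p n k) :=
  (AddMonoidHom.mk' (fun a : Additive (𝟙_ _ ⟶ A) => ev (Additive.toMul a ≫ f)) fun a b => by
    show ev ((Additive.toMul a * Additive.toMul b) ≫ f) = _
    rw [MonObj.mul_comp, ev_mul]).range

theorem mem_ptsImage {A : Over (Spec (CommRingCat.of k))} [GrpObj A] (f : A ⟶ W p n (Spec (CommRingCat.of k)))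
    [IsMonHom f] {v : TruncatedWittVector p n k} :
    v ∈ ptsImage f ↔ ∃ a : 𝟙_ _ ⟶ A, ev (a ≫ f) = v :=
  ⟨fun ⟨a, ha⟩ => ⟨Additive.toMul a, ha⟩, fun ⟨a, ha⟩ => ⟨Additive.ofMul a, ha⟩⟩

/-- A homomorphism from a connected group with a non-vanishing first component hits all rational points. -/
theorem ptsImage_eq_top [CharP k p] (hn : 0 < n) {A : Over (Spec (CommRingCat.of k))} [GrpObj A] [Smooth A.hom]
    [QuasiCompact A.hom] [ConnectedSpace A.left] (f : A ⟶ W p n (Spec (CommRingCat.of k))) [IsMonHom f]
    (a₀ : 𝟙_ _ ⟶ A) (h₀ : (ev (a₀ ≫ f)).coeff ⟨0, hn⟩ ≠ 0) : ptsImage f = ⊤ := by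
  refine eq_top_of_coeff_zero hn _ fun c => ?_
  have hco : ∀ a : 𝟙_ _ ⟶ A, (ev (a ≫ f ≫ R p (Spec (CommRingCat.of k)) hn)).coeff 0 =
      (ev (a ≫ f)).coeff ⟨0, hn⟩ := fun a => by
    rw [← Category.assoc, ev_R, TruncatedWittVector.coeff_truncate]
    rfl
  have hne : f ≫ R p (Spec (CommRingCat.of k)) hn ≠ 1 := fun h => h₀ (by
    rw [← hco, h, MonObj.comp_one, ev_one, TruncatedWittVector.coeff_zero])
  haveI := surjective_of_ne_one (f ≫ R p (Spec (CommRingCat.of k)) hn) hne
  obtain ⟨b, hb⟩ := ev_surjective (p := p) (k := k) (TruncatedWittVector.mk p fun _ : Fin 1 => c)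
  obtain ⟨a, ha⟩ := AVAmpleLib.exists_pt_lift (f ≫ R p (Spec (CommRingCat.of k)) hn) b
  refine ⟨ev (a ≫ f), (mem_ptsImage f).2 ⟨a, rfl⟩, ?_⟩
  rw [← hco, ha, hb, TruncatedWittVector.coeff_mk]

/-- A closed immersion into a Witt group hitting all rational points is an isomorphism. -/
theorem isIso_of_points {A : Over (Spec (CommRingCat.of k))} (j : A ⟶ W p n (Spec (CommRingCat.of k)))
    [IsClosedImmersion j.left] (h : ∀ x, ∃ a : 𝟙_ _ ⟶ A, a ≫ j = x) : IsIso j.left := by
  haveI : JacobsonSpace (W p n (Spec (CommRingCat.of k))).left :=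
    LocallyOfFiniteType.jacobsonSpace (W p n (Spec (CommRingCat.of k))).hom
  haveI : Surjective j.left := by
    refine ⟨Set.range_eq_univ.1 ?_⟩
    rw [← Set.univ_subset_iff, ← closure_closedPoints]
    refine j.left.isClosedEmbedding.isClosed_range.closure_subset_iff.2 fun x hx => ?_
    obtain ⟨a, ha⟩ := h (Over.homMk (pointOfClosedPoint (W p n (Spec (CommRingCat.of k))).hom x hx)
      (pointOfClosedPoint_comp _ _ _))
    refine ⟨a.left (IsLocalRing.closedPoint k), ?_⟩
    rw [← Scheme.Hom.comp_apply, ← Over.comp_left, ha]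
    simp
  exact isIso_of_isClosedImmersion_of_surjective j.left

/-- The connected smooth subgroups of a Witt group are the images of the shifts. -/
theorem exists_iso_range_V [CharP k p] {H : Over (Spec (CommRingCat.of k))} [GrpObj H] [Smooth H.hom]
    [ConnectedSpace H.left] (j : H ⟶ W p n (Spec (CommRingCat.of k))) [IsMonHom j] [IsClosedImmersion j.left] :
    ∃ (i : ℕ) (hi : i ≤ n) (e : H ≅ W p i (Spec (CommRingCat.of k))),
      e.hom ≫ V p (Spec (CommRingCat.of k)) hi = j := by
  classical
  haveI : QuasiCompact H.hom := by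
    rw [← Over.w j]; infer_instance
  let Q : ℕ → Prop := fun d => d ≤ n ∧ ∀ a : 𝟙_ _ ⟶ H, ∀ l : Fin n, (l : ℕ) < d → (ev (a ≫ j)).coeff l = 0
  have hQ0 : Q 0 := ⟨n.zero_le, fun _ l hl => absurd hl (Nat.not_lt_zero _)⟩
  obtain ⟨d, hd, hmax⟩ : ∃ d, Q d ∧ (d < n → ¬ Q (d + 1)) := by
    by_contra hcon
    push Not at hcon
    have : ∀ d, d ≤ n → Q d := by
      intro d
      induction d with
      | zero => exact fun _ => hQ0
      | succ d ih => exact fun hd => (hcon d (ih (by omega))).2
    exact absurd (hcon n (this n le_rfl)).1 (lt_irrefl n)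
  refine ⟨n - d, Nat.sub_le n d, ?_⟩
  have hj : j ≫ retr p (Spec (CommRingCat.of k)) (Nat.sub_le n d) ≫ V p (Spec (CommRingCat.of k)) (Nat.sub_le n d) =
      j := by
    refine hom_ext_ev fun a => ?_
    obtain ⟨y, hy⟩ := exists_shift (p := p) (Nat.sub_le n d) (ev (a ≫ j)) fun l hl => hd.2 a l (by omega)
    obtain ⟨b, rfl⟩ := ev_surjective y
    rw [← ev_V] at hy
    rw [← Category.assoc a j, ← ev_injective hy, Category.assoc, ← Category.assoc (V p _ _) (retr p _ _),
      V_retr, Category.id_comp]
  let j' := j ≫ retr p (Spec (CommRingCat.of k)) (Nat.sub_le n d)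
  have hj' : j' ≫ V p (Spec (CommRingCat.of k)) (Nat.sub_le n d) = j := (Category.assoc _ _ _).trans hj
  haveI : IsMonHom j' := by
    constructor
    · refine cancel_V (Nat.sub_le n d) ?_
      rw [Category.assoc, hj', IsMonHom.one_hom, IsMonHom.one_hom]
    · refine cancel_V (Nat.sub_le n d) ?_
      rw [Category.assoc, hj', IsMonHom.mul_hom, Category.assoc, IsMonHom.mul_hom, ← Category.assoc,
        tensorHom_comp_tensorHom, hj']
  haveI : IsClosedImmersion (j'.left ≫ (V p (Spec (CommRingCat.of k)) (Nat.sub_le n d)).left) := by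
    rw [← Over.comp_left, hj']; infer_instance
  haveI := isClosedImmersion_V (p := p) (S := Spec (CommRingCat.of k)) (Nat.sub_le n d)
  haveI : IsClosedImmersion j'.left :=
    IsClosedImmersion.of_comp j'.left (V p (Spec (CommRingCat.of k)) (Nat.sub_le n d)).left
  haveI : IsIso j'.left := isIso_of_points j' fun x => by
    by_cases hdn : d < n
    · have := hmax hdn
      simp only [Q, not_and, not_forall] at this
      obtain ⟨a, l, hl, hal⟩ := this hdn
      have hld : (l : ℕ) = d := by
        by_contra hne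
        exact hal (hd.2 a l (by omega))
      have h0 : (ev (a ≫ j')).coeff ⟨0, Nat.sub_pos_of_lt hdn⟩ ≠ 0 := by
        intro h
        refine hal ?_
        rw [← hj', ← Category.assoc, ev_V, coeff_shift, dif_pos (by omega)]
        convert h using 2
        exact Fin.ext (by dsimp only; omega)
      obtain ⟨b, hb⟩ := (mem_ptsImage j').1
        ((ptsImage_eq_top (Nat.sub_pos_of_lt hdn) j' a h0).symm ▸ AddSubgroup.mem_top (ev x))
      exact ⟨b, ev_injective hb⟩
    · exact ⟨1, ev_injective (TruncatedWittVector.ext fun l => absurd l.isLt (by omega))⟩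
  haveI : IsIso j' := (isIso_iff_of_reflects_iso j' (Over.forget _)).1 (by simpa using inferInstanceAs (IsIso j'.left))
  exact ⟨asIso j', hj'⟩

end WittGrpLib
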