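import Groth.Agent.WittGrpLib.Endo
import Groth.Agent.WittGrpLib.Conn
import Groth.Prelude.Def_SGA7IX

/-!
Isogenies among the endomorphisms of a Witt group.
-/

set_option autoImplicit false
set_option linter.style.haveILetI false
set_option backward.isDefEq.respectTransparency false
set_option maxHeartbeats 1000000

noncomputable section

universe u

open CategoryTheory CategoryTheory.Limits MonoidalCategory CartesianMonoidalCategory MonObj AlgebraicGeometry
open WittGrp
open Groth.Agent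

namespace WittGrpLib

variable {p : ℕ} [Fact p.Prime] {k : Type u} [Field k] [CharP k p] [IsAlgClosed k] {n : ℕ}

local notation "SK" => Spec (CommRingCat.of k)

/-- The first component of an endomorphism vanishes. -/
def ZeroAtFirst (f : W p (n + 1) SK ⟶ W p (n + 1) SK) : Prop :=
  ∀ a : 𝟙_ _ ⟶ W p (n + 1) SK, (ev (a ≫ f)).coeff 0 = 0

/-- An endomorphism with vanishing first component passes through restriction and shift. -/
theorem exists_eq_R_V (f : W p (n + 1) SK ⟶ W p (n + 1) SK) [IsMonHom f] (hf : ZeroAtFirst f) :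
    ∃ ψ : W p n SK ⟶ W p n SK, Gen ψ ∧
      R p SK (Nat.le_add_right n 1) ≫ ψ ≫ V p SK (Nat.le_add_right n 1) = f := by
  obtain ⟨h1, h2⟩ := factor_V (Nat.le_add_right n 1) f fun a i hi => by
    rw [show i = 0 from Fin.ext (by simp only [Fin.val_zero]; omega)]
    exact hf a
  haveI := h1
  obtain ⟨ψ, ⟨hψ, hψR⟩, -⟩ :=
    existsUnique_factor_R (Nat.le_add_right n 1) le_rfl (f ≫ retr p SK (Nat.le_add_right n 1))
  exact ⟨ψ, gen_of_isMonHom ψ hψ, by rw [← Category.assoc, hψR, h2]⟩

/-- The kernel on rational points of an endomorphism with non-zero first component is finite. -/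
theorem finite_ker (f : W p (n + 1) SK ⟶ W p (n + 1) SK) [IsMonHom f] (hf : ¬ ZeroAtFirst f) :
    {v : TruncatedWittVector p (n + 1) k | evHom f v = 0}.Finite := by
  obtain ⟨g, ⟨hg, hfac⟩, -⟩ :=
    existsUnique_factor_R (Nat.le_add_left 1 n) le_rfl (f ≫ R p SK (Nat.le_add_left 1 n))
  obtain ⟨P, hP⟩ := exists_poly g
  let Q : Polynomial k := MvPolynomial.aeval (fun _ : Fin 1 => Polynomial.X) P
  have hQ : ∀ x : 𝟙_ _ ⟶ W p (n + 1) SK, (ev (x ≫ f)).coeff 0 = Q.eval ((ev x).coeff 0) := fun x => by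
    have e2 : TruncatedWittVector.truncate (Nat.le_add_left 1 n) (ev (x ≫ f)) =
        ev ((x ≫ R p SK (Nat.le_add_left 1 n)) ≫ g) := by rw [← ev_R, Category.assoc, Category.assoc, hfac]
    have e3 := congrArg (fun v : TruncatedWittVector p 1 k => v.coeff 0) e2
    simp only [hP, ev_R, TruncatedWittVector.coeff_truncate] at e3
    refine e3.trans ?_
    show _ = (Polynomial.aeval ((ev x).coeff 0)) (MvPolynomial.aeval (fun _ : Fin 1 => Polynomial.X) P)
    rw [← AlgHom.comp_apply, MvPolynomial.comp_aeval, MvPolynomial.aeval_eq_eval]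
    refine congrArg (fun v => MvPolynomial.eval v P) (funext fun i => ?_)
    rw [Subsingleton.elim i 0]
    simp
  have hQ0 : Q ≠ 0 := fun h => hf fun a => by rw [hQ, h, Polynomial.eval_zero]
  let Z : Set k := {c | Q.eval c = 0}
  have hZ : Z.Finite := Polynomial.finite_setOf_isRoot hQ0
  -- the kernel vectors vanishing below a place
  suffices h : ∀ d : ℕ, {v : TruncatedWittVector p (n + 1) k | evHom f v = 0 ∧
      ∀ i : Fin (n + 1), (i : ℕ) + d < n + 1 → v.coeff i = 0}.Finite by
    exact (h (n + 1)).subset fun v hv => ⟨hv, fun i hi => absurd hi (by omega)⟩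
  intro d
  induction d with
  | zero =>
    refine (Set.finite_singleton (0 : TruncatedWittVector p (n + 1) k)).subset fun v hv => ?_
    exact TruncatedWittVector.ext fun i => by rw [hv.2 i (by have := i.isLt; omega), TruncatedWittVector.coeff_zero]
  | succ d ih =>
    by_cases hd : n + 1 ≤ d
    · exact ih.subset fun v hv => ⟨hv.1, fun i hi => absurd hi (by omega)⟩
    let i₀ : Fin (n + 1) := ⟨n + 1 - (d + 1), by omega⟩
    refine Set.Finite.of_finite_fibers (fun v => v.coeff i₀)
      ((hZ.image fun z => z ^ p ^ (i₀ : ℕ)).subset ?_) fun c hc => ?_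
    · rintro _ ⟨v, ⟨hv0, hv⟩, rfl⟩
      obtain ⟨z, hz⟩ := exists_nsmul_eq (l := (i₀ : ℕ)) v fun i hi => hv i (by simp [i₀] at hi; omega)
      refine ⟨z.coeff 0, ?_, ?_⟩
      · obtain ⟨x, rfl⟩ := ev_surjective z
        have h1 := congrArg (fun w : TruncatedWittVector p (n + 1) k => w.coeff i₀) hv0
        simp only [← hz, map_nsmul, TruncatedWittVector.coeff_zero] at h1
        rw [coeff_pow_nsmul, if_pos le_rfl, evHom_ev] at h1
        have h2 := (pow_eq_zero_iff (pow_ne_zero _ (Fact.out : p.Prime).ne_zero)).1 h1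
        show Q.eval _ = 0
        rw [← hQ, ← h2]
        congr 1
        exact Fin.ext (by simp)
      · rw [← hz]
        show _ = ((p ^ (i₀ : ℕ)) • z).coeff i₀
        rw [coeff_pow_nsmul, if_pos le_rfl]
        congr 2
        exact Fin.ext (by simp)
    · obtain ⟨w, ⟨hw0, hw⟩, hwc⟩ := hc
      refine (ih.image (fun u => u + w)).subset ?_
      rintro v ⟨⟨hv0, hv⟩, hvc⟩
      refine ⟨v - w, ⟨by rw [map_sub, hv0, hw0, sub_zero], fun i hi => ?_⟩, sub_add_cancel v w⟩
      refine coeff_sub_eq_zero (j := n + 1 - d) (fun l hl => ?_) i (by omega)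
      by_cases h : (l : ℕ) + (d + 1) < n + 1
      · rw [hv l h, hw l h]
      · have hl0 : l = i₀ := Fin.ext (by show (l : ℕ) = n + 1 - (d + 1); omega)
        subst hl0
        exact hvc.trans hwc.symm

/-- An endomorphism is an isogeny exactly when its first component does not vanish. -/
theorem isogeny_iff (f : W p (n + 1) SK ⟶ W p (n + 1) SK) [IsMonHom f] :
    SGA7.IsIsogenyOver f ↔ ¬ ZeroAtFirst f := by
  constructor
  · intro h hz
    haveI := h.1
    obtain ⟨y, hy⟩ := ev_surjective (p := p) (k := k) (TruncatedWittVector.mk p fun _ : Fin (n + 1) => (1 : k))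
    obtain ⟨a, ha⟩ := AVAmpleLib.exists_pt_lift f y
    have := hz a
    rw [ha, hy, TruncatedWittVector.coeff_mk] at this
    exact one_ne_zero this
  intro hf
  have hfin := finite_ker f hf
  haveI : IsAffineHom f.left := by
    haveI : IsAffineHom (f.left ≫ (W p (n + 1) SK).hom) := by rw [Over.w]; infer_instance
    exact IsAffineHom.of_comp f.left (W p (n + 1) SK).hom
  haveI : Surjective f.left := by
    obtain ⟨a, ha⟩ := not_forall.1 hf
    haveI : IrreducibleSpace ↥(Spec (CommRingCat.of k)) := inferInstanceAs (IrreducibleSpace (PrimeSpectrum k))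
    haveI : IrreducibleSpace (W p (n + 1) SK).left :=
      inferInstanceAs (IrreducibleSpace 𝔸(ULift.{u} (Fin (n + 1)); Spec (CommRingCat.of k)))
    haveI : JacobsonSpace (W p (n + 1) SK).left :=
      LocallyOfFiniteType.jacobsonSpace (W p (n + 1) SK).hom
    have htop := ptsImage_eq_top n.succ_pos f a ha
    refine ⟨Set.range_eq_univ.1 ?_⟩
    rw [← Set.univ_subset_iff, ← closure_closedPoints]
    refine (GrpHom.isClosed_range f).closure_subset_iff.2 fun x hx => ?_
    obtain ⟨b, hb⟩ := (mem_ptsImage f).1 (htop.symm ▸ AddSubgroup.mem_top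
      (ev (Over.homMk (pointOfClosedPoint (W p (n + 1) SK).hom x hx) (pointOfClosedPoint_comp _ _ _))))
    refine ⟨(b.left (IsLocalRing.closedPoint k)), ?_⟩
    rw [← Scheme.Hom.comp_apply, ← Over.comp_left, ev_injective hb]
    simp
  refine ⟨‹_›, fun N i hi => ?_⟩
  haveI : IsClosedImmersion i.left := by
    haveI : IsClosedImmersion (η[W p (n + 1) SK] : 𝟙_ _ ⟶ W p (n + 1) SK).left :=
      isClosedImmersion_of_comp_eq_id (W p (n + 1) SK).hom _
        (Over.w (η[W p (n + 1) SK] : 𝟙_ _ ⟶ W p (n + 1) SK))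
    exact MorphismProperty.of_isPullback (P := @IsClosedImmersion) (hi.map (Over.forget _)).flip ‹_›
  haveI : Mono i := (Over.forget _).mono_of_mono_map (inferInstanceAs (Mono i.left))
  haveI : LocallyOfFiniteType N.hom := by rw [← Over.w i]; infer_instance
  haveI : QuasiCompact N.hom := by rw [← Over.w i]; infer_instance
  have hpts : (Set.univ : Set (𝟙_ (Over SK) ⟶ N)).Finite := by
    refine Set.Finite.of_finite_image (f := fun b => ev (b ≫ i)) (hfin.subset ?_) fun b _ c _ h =>
      (cancel_mono i).1 (ev_injective h)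
    rintro _ ⟨b, -, rfl⟩
    show evHom f _ = 0
    rw [evHom_ev, Category.assoc, hi.w, ← Category.assoc, toUnit_unique (b ≫ toUnit N) (toUnit _), ← Hom.one_def,
      ev_one]
  haveI : JacobsonSpace N.left := LocallyOfFiniteType.jacobsonSpace N.hom
  have hcl : (closedPoints N.left).Finite := by
    refine (hpts.image fun b => b.left (IsLocalRing.closedPoint k)).subset fun x hx => ?_
    exact ⟨Over.homMk (pointOfClosedPoint N.hom x hx) (pointOfClosedPoint_comp _ _ _), trivial, by simp⟩
  have huniv : closedPoints N.left = Set.univ := by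
    rw [← closure_closedPoints (X := N.left), IsClosed.closure_eq]
    rw [← Set.biUnion_of_singleton (closedPoints N.left)]
    exact hcl.isClosed_biUnion fun x hx => hx
  haveI : LocallyQuasiFinite N.hom :=
    LocallyQuasiFinite.of_finite_preimage_singleton N.hom fun x => (huniv ▸ hcl).subset (Set.subset_univ _)
  exact IsFinite.of_locallyQuasiFinite N.hom

theorem lift_iff (f : W p (n + 1) SK ⟶ W p (n + 1) SK) [IsMonHom f] :
    (∃ g : W p (n + 1) SK ⟶ W p (n + 1 + 1) SK, IsMonHom g ∧ g ≫ R p SK (Nat.le_add_right (n + 1) 1) = f) ↔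
      ¬ SGA7.IsIsogenyOver f := by
  rw [isogeny_iff, not_not]
  constructor
  · rintro ⟨g, hg, rfl⟩ a
    rw [← Category.assoc, ev_R, TruncatedWittVector.coeff_truncate]
    have h0 : (p ^ (n + 1)) • ev (a ≫ g) = 0 := by
      rw [← evHom_ev, ← map_nsmul, nsmul_eq_zero _ le_rfl, map_zero]
    have h1 := congrArg (fun w : TruncatedWittVector p (n + 1 + 1) k => w.coeff (⟨n + 1, by omega⟩ : Fin (n + 1 + 1))) h0
    simp only [TruncatedWittVector.coeff_zero] at h1
    rw [coeff_pow_nsmul, if_pos le_rfl] at h1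
    rw [← (pow_eq_zero_iff (pow_ne_zero _ (Fact.out : p.Prime).ne_zero)).1 h1]
    congr 1
    exact Fin.ext (by simp)
  · intro hz
    obtain ⟨ψ, hψ, hψf⟩ := exists_eq_R_V f hz
    obtain ⟨ψ', hψ'g, hψ'⟩ := hψ.lift_R
    haveI := hψ'g.isMonHom
    refine ⟨ψ' ≫ V p SK (Nat.le_add_right (n + 1) 1), inferInstance, ?_⟩
    rw [← hψf, ← Category.assoc (R p SK (Nat.le_add_right n 1)), hψ', Category.assoc, Category.assoc,
      R_V (c := n + 1) (d := n + 1 + 1) (Nat.le_add_right n 1) (Nat.le_add_right n 1) (Nat.le_add_right (n + 1) 1)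
        (Nat.le_add_right (n + 1) 1) (by omega)]

theorem extend_iff (f : W p (n + 1) SK ⟶ W p (n + 1) SK) [IsMonHom f] :
    (∃ g : W p (n + 1 + 1) SK ⟶ W p (n + 1) SK, IsMonHom g ∧ V p SK (Nat.le_add_right (n + 1) 1) ≫ g = f) ↔
      ¬ SGA7.IsIsogenyOver f := by
  rw [isogeny_iff, not_not]
  constructor
  · rintro ⟨g, hg, rfl⟩ a
    rw [← Category.assoc, ← evHom_ev, ev_V]
    obtain ⟨z, hz⟩ := exists_nsmul_eq (l := 1) (shift p (Nat.le_add_right (n + 1) 1) (ev a)) fun i hi => by
      rw [coeff_shift, dif_neg (by omega)]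
    rw [← hz, map_nsmul, coeff_pow_nsmul, if_neg (by simp)]
  · intro hz
    obtain ⟨ψ, hψ, hψf⟩ := exists_eq_R_V f hz
    obtain ⟨ψ', hψ'g, hψ'⟩ := hψ.lift_V
    haveI := hψ'g.isMonHom
    refine ⟨R p SK (Nat.le_add_right (n + 1) 1) ≫ ψ', inferInstance, ?_⟩
    rw [← hψf, hψ', ← Category.assoc, ← Category.assoc,
      R_V (c := n + 1) (d := n + 1 + 1) (Nat.le_add_right n 1) (Nat.le_add_right n 1) (Nat.le_add_right (n + 1) 1)
        (Nat.le_add_right (n + 1) 1) (by omega)]

theorem exists_lift_line_R (φ : W p 1 SK ⟶ W p 1 SK) [hφ : IsMonHom φ] :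
    ∀ n : ℕ, ∃ Φ : W p (n + 1) SK ⟶ W p (n + 1) SK, Gen Φ ∧
      R p SK (Nat.le_add_left 1 n) ≫ φ = Φ ≫ R p SK (Nat.le_add_left 1 n) := by
  intro n
  induction n with
  | zero => exact ⟨φ, gen_of_isMonHom φ hφ, by rw [R_refl, Category.id_comp, Category.comp_id]⟩
  | succ n ih =>
    obtain ⟨Φ, h1, h2⟩ := ih
    obtain ⟨Φ', h3, h4⟩ := h1.lift_R
    refine ⟨Φ', h3, ?_⟩
    rw [← R_comp (Nat.le_add_left 1 n) (Nat.le_add_right (n + 1) 1), Category.assoc, h2, ← Category.assoc, h4,
      Category.assoc]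

theorem exists_lift_line_V (φ : W p 1 SK ⟶ W p 1 SK) [hφ : IsMonHom φ] :
    ∀ n : ℕ, ∃ Φ : W p (n + 1) SK ⟶ W p (n + 1) SK, Gen Φ ∧
      φ ≫ V p SK (Nat.le_add_left 1 n) = V p SK (Nat.le_add_left 1 n) ≫ Φ := by
  intro n
  induction n with
  | zero =>
    refine ⟨φ, gen_of_isMonHom φ hφ, ?_⟩
    have : V p SK (Nat.le_add_left 1 0) = 𝟙 (W p 1 SK) := by
      refine ext_pts (TruncatedWittVector.ext fun i => ?_)
      rw [← Category.id_comp (V p SK _), pts_V, coeff_shift, dif_pos (by simp)]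
      congr 1
    rw [this, Category.id_comp, Category.comp_id]
  | succ n ih =>
    obtain ⟨Φ, h1, h2⟩ := ih
    obtain ⟨Φ', h3, h4⟩ := h1.lift_V
    refine ⟨Φ', h3, ?_⟩
    rw [← V_comp (Nat.le_add_left 1 n) (Nat.le_add_right (n + 1) 1), ← Category.assoc, h2, Category.assoc, h4,
      Category.assoc]

end WittGrpLib
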