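import Groth.Agent.WittGrpLib.Homs

/-!
Homomorphisms between Witt groups and the additive group.
-/

set_option autoImplicit false
set_option linter.style.haveILetI false
set_option backward.isDefEq.respectTransparency false
set_option maxHeartbeats 1000000

noncomputable section

universe u

open CategoryTheory CategoryTheory.Limits MonoidalCategory CartesianMonoidalCategory MonObj AlgebraicGeometry
open WittGrp

namespace WittGrpLib

variable {p : ℕ} [Fact p.Prime] {k : Type u} [Field k] [CharP k p] [IsAlgClosed k] {n m l : ℕ}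

local notation "SK" => Spec (CommRingCat.of k)

omit [CharP k p] [IsAlgClosed k] in
theorem coeff_zero_of_truncate (h : n ≤ m) (v : TruncatedWittVector p m k)
    (hv : TruncatedWittVector.truncate h v = 0) (i : Fin m) (hi : (i : ℕ) < n) : v.coeff i = 0 := by
  have := congrArg (fun w : TruncatedWittVector p n k => w.coeff ⟨(i : ℕ), hi⟩) hv
  simp only [TruncatedWittVector.coeff_truncate, TruncatedWittVector.coeff_zero] at this
  exact this

/-- A vector vanishing up to place `l` is a multiple of `p ^ l`. -/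
theorem exists_nsmul_eq (v : TruncatedWittVector p n k) (hv : ∀ i : Fin n, (i : ℕ) < l → v.coeff i = 0) :
    ∃ z : TruncatedWittVector p n k, (p ^ l) • z = v :=
  ⟨TruncatedWittVector.mk p fun i : Fin n =>
      if hi : (i : ℕ) + l < n then (iterateFrobeniusEquiv k p l).symm (v.coeff ⟨(i : ℕ) + l, hi⟩) else 0,
    TruncatedWittVector.ext fun i => by
      rw [coeff_pow_nsmul]
      split_ifs with h
      · rw [TruncatedWittVector.coeff_mk, dif_pos (by dsimp only; omega), ← iterateFrobeniusEquiv_def (R := k),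
          RingEquiv.apply_symm_apply]
        congr 1
        exact Fin.ext (by dsimp only; omega)
      · exact (hv i (by omega)).symm⟩

theorem nsmul_eq_zero (v : TruncatedWittVector p n k) (h : n ≤ l) : (p ^ l) • v = 0 :=
  TruncatedWittVector.ext fun i => by
    rw [coeff_pow_nsmul, if_neg (by have := i.isLt; omega), TruncatedWittVector.coeff_zero]

/-- Homomorphisms out of a Witt group kill the vectors that vanish up to the length of the target. -/
theorem evHom_eq_zero (f : W p m SK ⟶ W p l SK) [IsMonHom f] (v : TruncatedWittVector p m k)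
    (hv : ∀ i : Fin m, (i : ℕ) < l → v.coeff i = 0) : evHom f v = 0 := by
  obtain ⟨z, rfl⟩ := exists_nsmul_eq v hv
  rw [map_nsmul, nsmul_eq_zero _ le_rfl]

theorem existsUnique_factor_R (h : n ≤ m) (hl : l ≤ n) (f : W p m SK ⟶ W p l SK) [IsMonHom f] :
    ∃! g : W p n SK ⟶ W p l SK, IsMonHom g ∧ R p SK h ≫ g = f := by
  obtain ⟨hg, hfac⟩ := factor_R h f fun v hv =>
    evHom_eq_zero f v fun i hi => coeff_zero_of_truncate h v hv i (by omega)
  refine ⟨sect p SK h ≫ f, ⟨hg, hfac⟩, fun g hg => ?_⟩
  rw [← hg.2, ← Category.assoc, sect_R, Category.id_comp]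

theorem existsUnique_factor_V (h : n ≤ m) (hl : l ≤ n) (f : W p l SK ⟶ W p m SK) [IsMonHom f] :
    ∃! g : W p l SK ⟶ W p n SK, IsMonHom g ∧ g ≫ V p SK h = f := by
  obtain ⟨hg, hfac⟩ := factor_V h f fun a i hi => by
    have h0 : (p ^ l) • ev (a ≫ f) = 0 := by
      rw [← evHom_ev, ← map_nsmul, nsmul_eq_zero _ le_rfl, map_zero]
    have h1 := congrArg (fun w : TruncatedWittVector p m k => w.coeff ⟨(i : ℕ) + l, by omega⟩) h0
    simp only [TruncatedWittVector.coeff_zero] at h1
    rw [coeff_pow_nsmul, if_pos (by dsimp only; omega)] at h1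
    have := pow_eq_zero_iff (pow_ne_zero l (Fact.out : p.Prime).ne_zero) |>.1 h1
    convert this using 2
    exact Fin.ext (by dsimp only; omega)
  exact ⟨_, ⟨hg, hfac⟩, fun g hg => cancel_V h (hg.2.trans hfac.symm)⟩

/-- The polynomial with the `p`-th roots of the coefficients. -/
def root (P : MvPolynomial (Fin n) k) : MvPolynomial (Fin n) k :=
  MvPolynomial.map (frobeniusEquiv k p).symm.toRingHom P

theorem eval_root_pow (P : MvPolynomial (Fin n) k) (c : Fin n → k) :
    MvPolynomial.eval c (root (p := p) P) ^ p = MvPolynomial.eval (fun i => c i ^ p) P := by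
  rw [← frobenius_def, root, MvPolynomial.eval_map, MvPolynomial.eval₂_comp_left, MvPolynomial.eval]
  rw [MvPolynomial.coe_eval₂Hom]
  refine congrArg₂ (fun f g => MvPolynomial.eval₂ f g P) (RingHom.ext fun x => ?_) rfl
  simp [frobenius_apply_frobeniusEquiv_symm]

theorem range_F_iff (hp : (p : Γ(Spec (CommRingCat.of k), ⊤)) = 0) (h : W p n SK ⟶ W p 1 SK) [IsMonHom h] :
    (∃ h₁ : W p n SK ⟶ W p 1 SK, IsMonHom h₁ ∧ F p n SK hp ≫ h₁ = h) ↔
      ∃ h₂ : W p n SK ⟶ W p 1 SK, IsMonHom h₂ ∧ h₂ ≫ F p 1 SK hp = h := by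
  have hinj : Function.Injective fun c : k => c ^ p := frobenius_inj k p
  constructor
  · rintro ⟨h₁, hm, rfl⟩
    obtain ⟨P, hP⟩ := exists_poly h₁
    let q : W p n SK ⟶ W p 1 SK := polyHom fun _ => root (p := p) P
    have hq : ∀ x, (ev (x ≫ q)).coeff 0 ^ p = (ev (x ≫ F p n SK hp ≫ h₁)).coeff 0 := fun x => by
      rw [coeff_ev_polyHom, eval_root_pow, ← Category.assoc, hP]
      exact congrArg (fun c => MvPolynomial.eval c P) (funext fun i => (coeff_ev_F hp x i).symm)
    have hfac : q ≫ F p 1 SK hp = F p n SK hp ≫ h₁ := hom_ext_ev fun a =>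
      TruncatedWittVector.ext fun i => by rw [Subsingleton.elim i 0, ← Category.assoc, coeff_ev_F, hq]
    refine ⟨q, ?_, hfac⟩
    refine isMonHom_of_ev q (AddMonoidHom.mk' (fun v => ev (evEquiv.symm v ≫ q)) fun a b => ?_)
      fun x => by rw [AddMonoidHom.mk'_apply, evEquiv_symm_ev]
    obtain ⟨x, rfl⟩ := ev_surjective a
    obtain ⟨y, rfl⟩ := ev_surjective b
    rw [← ev_mul, evEquiv_symm_ev, evEquiv_symm_ev, evEquiv_symm_ev]
    have e : ev ((x * y) ≫ q ≫ F p 1 SK hp) = ev (x ≫ q ≫ F p 1 SK hp) + ev (y ≫ q ≫ F p 1 SK hp) := by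
      rw [hfac, MonObj.mul_comp, ev_mul]
    rw [← Category.assoc, ← Category.assoc, ← Category.assoc, ev_F, ev_F, ev_F, ← map_add] at e
    refine TruncatedWittVector.ext fun i => hinj ?_
    show _ ^ p = _ ^ p
    have := congrArg (fun w : TruncatedWittVector p 1 k => w.coeff i) e
    simpa only [coeff_frob] using this
  · rintro ⟨h₂, hm, rfl⟩
    obtain ⟨P, hP⟩ := exists_poly h₂
    let q : W p n SK ⟶ W p 1 SK := polyHom fun _ => MvPolynomial.map (frobenius k p) P
    have hq : F p n SK hp ≫ q = h₂ ≫ F p 1 SK hp := hom_ext_ev fun a =>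
      TruncatedWittVector.ext fun i => by
        rw [Subsingleton.elim i 0, ← Category.assoc, ← Category.assoc, coeff_ev_polyHom, coeff_ev_F, hP,
          ← frobenius_def, MvPolynomial.eval_map, MvPolynomial.eval, MvPolynomial.coe_eval₂Hom,
          MvPolynomial.eval₂_comp_left, RingHom.comp_id]
        refine congrArg (fun c => MvPolynomial.eval₂ _ c P) (funext fun i => ?_)
        rw [Function.comp_apply, coeff_ev_F, frobenius_def]
    refine ⟨q, ?_, hq⟩
    have hsur : ∀ v : TruncatedWittVector p n k, ∃ x, ev (x ≫ F p n SK hp) = v := fun v => by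
      obtain ⟨x, hx⟩ := ev_surjective (p := p) (k := k)
        (TruncatedWittVector.mk p fun i : Fin n => (frobeniusEquiv k p).symm (v.coeff i))
      exact ⟨x, TruncatedWittVector.ext fun i => by
        rw [coeff_ev_F, hx, TruncatedWittVector.coeff_mk, frobeniusEquiv_symm_pow_p]⟩
    refine isMonHom_of_ev q (AddMonoidHom.mk' (fun v => ev (evEquiv.symm v ≫ q)) fun a b => ?_)
      fun x => by rw [AddMonoidHom.mk'_apply, evEquiv_symm_ev]
    obtain ⟨x, rfl⟩ := hsur a
    obtain ⟨y, rfl⟩ := hsur b
    rw [← ev_mul, ← MonObj.mul_comp, evEquiv_symm_ev, evEquiv_symm_ev, evEquiv_symm_ev, Category.assoc,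
      Category.assoc, Category.assoc, hq, MonObj.mul_comp, ev_mul]

end WittGrpLib
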