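import Groth.Agent.WittGrpLib.Geom
import Groth.Agent.AVAmpleLib.HomDiv
import Groth.Agent.AlgSpLib.ReducedSmooth

/-!
Rational points of the Witt groups over a field: Witt vectors with components in the field.
-/

set_option autoImplicit false
set_option linter.style.haveILetI false
set_option backward.isDefEq.respectTransparency false

noncomputable section

universe u

open CategoryTheory CategoryTheory.Limits MonoidalCategory CartesianMonoidalCategory MonObj AlgebraicGeometry
open WittGrp

namespace WittGrpLib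

variable {p : ℕ} [Fact p.Prime] {k : Type u} [Field k] {n m : ℕ}

/-- The functions on the point. -/
def ptFn (k : Type u) [Field k] : Γ((𝟙_ (Over (Spec (CommRingCat.of k)))).left, ⊤) ≃+* k :=
  (Scheme.ΓSpecIso (CommRingCat.of k)).commRingCatIsoToRingEquiv

/-- The constants. -/
def cst (k : Type u) [Field k] : k ≃+* Γ(Spec (CommRingCat.of k), ⊤) :=
  (Scheme.ΓSpecIso (CommRingCat.of k)).commRingCatIsoToRingEquiv.symm

/-- The components of a rational point of a Witt group. -/
def ev (x : 𝟙_ (Over (Spec (CommRingCat.of k))) ⟶ W p n (Spec (CommRingCat.of k))) : TruncatedWittVector p n k :=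
  truncMap p n (ptFn k).toRingHom (pts p _ (Additive.ofMul x))

theorem ev_injective : Function.Injective (ev (p := p) (k := k) (n := n)) := fun x y h => by
  refine ext_pts (TruncatedWittVector.ext fun i => (ptFn k).injective ?_)
  simpa [ev] using congrArg (fun v : TruncatedWittVector p n k => v.coeff i) h

theorem ev_surjective : Function.Surjective (ev (p := p) (k := k) (n := n)) := fun v => by
  refine ⟨mkPt (truncMap p n (ptFn k).symm.toRingHom v), ?_⟩
  rw [ev, pts_mkPt, ← RingHom.comp_apply, ← truncMap_comp]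
  exact TruncatedWittVector.ext fun i => by simp

theorem ev_one : ev (p := p) (1 : 𝟙_ _ ⟶ W p n (Spec (CommRingCat.of k))) = 0 := by
  rw [ev, pts_one, map_zero]

theorem ev_mul (x y : 𝟙_ _ ⟶ W p n (Spec (CommRingCat.of k))) : ev (x * y) = ev x + ev y := by
  rw [ev, pts_mul, map_add]; rfl

theorem ev_pow (x : 𝟙_ _ ⟶ W p n (Spec (CommRingCat.of k))) (N : ℕ) : ev (x ^ N) = N • ev x := by
  rw [ev, ofMul_pow, map_nsmul, map_nsmul]; rfl

theorem ev_R (h : n ≤ m) (x : 𝟙_ _ ⟶ W p m (Spec (CommRingCat.of k))) :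
    ev (x ≫ R p (Spec (CommRingCat.of k)) h) = TruncatedWittVector.truncate h (ev x) := by
  rw [ev, pts_R, truncMap_truncateLE]; rfl

theorem ev_V (h : n ≤ m) (x : 𝟙_ _ ⟶ W p n (Spec (CommRingCat.of k))) :
    ev (x ≫ V p (Spec (CommRingCat.of k)) h) = shift p h (ev x) := by
  rw [ev, pts_V, truncMap_shift]; rfl

theorem natCast_eq_zero_of_top (hp : (p : Γ(Spec (CommRingCat.of k), ⊤)) = 0) : (p : k) = 0 := by
  rw [← map_natCast (cst k).symm p, hp, map_zero]

theorem top_natCast_eq_zero [CharP k p] : (p : Γ(Spec (CommRingCat.of k), ⊤)) = 0 := by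
  rw [← map_natCast (cst k) p, CharP.cast_eq_zero, map_zero]

theorem coeff_ev_F (hp : (p : Γ(Spec (CommRingCat.of k), ⊤)) = 0)
    (x : 𝟙_ _ ⟶ W p n (Spec (CommRingCat.of k))) (i : Fin n) :
    (ev (x ≫ F p n (Spec (CommRingCat.of k)) hp)).coeff i = (ev x).coeff i ^ p := by
  rw [ev, ev, pts_F, coeff_truncMap, coeff_truncMap, coeff_frob, map_pow]

theorem ev_F (hp : (p : Γ(Spec (CommRingCat.of k), ⊤)) = 0)
    (x : 𝟙_ _ ⟶ W p n (Spec (CommRingCat.of k))) :
    ev (x ≫ F p n (Spec (CommRingCat.of k)) hp) = frob p n (natCast_eq_zero_of_top hp) (ev x) :=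
  TruncatedWittVector.ext fun i => by rw [coeff_ev_F, coeff_frob]

theorem ev_mulC (a : TruncatedWittVector p n k) (x : 𝟙_ _ ⟶ W p n (Spec (CommRingCat.of k))) :
    ev (x ≫ mulC (truncMap p n (cst k).toRingHom a)) = a * ev x := by
  rw [ev, pts_mulC, map_mul, pull, ← RingHom.comp_apply, ← RingHom.comp_apply, ← truncMap_comp, ← truncMap_comp]
  congr 1
  refine TruncatedWittVector.ext fun i => ?_
  rw [coeff_truncMap]
  simp [cst, ptFn, Over.tensorUnit_hom]

instance isReduced_W : IsReduced (W p n (Spec (CommRingCat.of k))).left :=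
  AlgSpLib.isReduced_of_smooth (W p n (Spec (CommRingCat.of k))).hom

variable [IsAlgClosed k]

/-- Morphisms of smooth sources into Witt groups are determined by rational points. -/
theorem hom_ext_ev {A : Over (Spec (CommRingCat.of k))} [Smooth A.hom]
    {f g : A ⟶ W p n (Spec (CommRingCat.of k))}
    (h : ∀ a : 𝟙_ (Over (Spec (CommRingCat.of k))) ⟶ A, ev (a ≫ f) = ev (a ≫ g)) : f = g := by
  haveI : IsReduced A.left := AlgSpLib.isReduced_of_smooth A.hom
  exact AVAmpleLib.hom_ext_of_points f g fun a => ev_injective (h a)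

/-- A morphism of Witt groups which is additive on rational points is a homomorphism. -/
theorem isMonHom_of_ev (f : W p n (Spec (CommRingCat.of k)) ⟶ W p m (Spec (CommRingCat.of k)))
    (φ : TruncatedWittVector p n k →+ TruncatedWittVector p m k) (hf : ∀ x, ev (x ≫ f) = φ (ev x)) :
    IsMonHom f where
  one_hom := by
    refine ev_injective ?_
    rw [hf, ← Category.id_comp η[W p n (Spec (CommRingCat.of k))], ← toUnit_unique (toUnit (𝟙_ _)) (𝟙 _),
      ← Hom.one_def, ev_one, map_zero, ← Category.id_comp η[W p m (Spec (CommRingCat.of k))],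
      ← toUnit_unique (toUnit (𝟙_ _)) (𝟙 _), ← Hom.one_def, ev_one]
  mul_hom := by
    haveI : Smooth (W p n (Spec (CommRingCat.of k)) ⊗ W p n (Spec (CommRingCat.of k))).hom := by
      rw [← Over.w (fst (W p n (Spec (CommRingCat.of k))) (W p n (Spec (CommRingCat.of k))))]
      haveI : Smooth (fst (W p n (Spec (CommRingCat.of k))) (W p n (Spec (CommRingCat.of k)))).left :=
        MorphismProperty.pullback_fst _ _ inferInstance
      infer_instance
    refine hom_ext_ev fun a => ?_
    rw [← lift_comp_fst_snd a, lift_map_assoc, ← Hom.mul_def, ← Category.assoc, ← Hom.mul_def, hf, ev_mul,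
      map_add, ev_mul, hf, hf]

end WittGrpLib
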