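import Mathlib

/-!
Additive polynomials over an algebraically closed field of positive characteristic.
-/

set_option autoImplicit false

noncomputable section

universe u

open Polynomial

namespace WittGrpLib

variable {p : ℕ} [Fact p.Prime] {k : Type u} [Field k] [CharP k p] [IsAlgClosed k]

/-- An additive polynomial function is a sum of iterated Frobenius maps. -/
theorem exists_sum_frobenius (Q : k[X]) (hQ : ∀ a b, Q.eval (a + b) = Q.eval a + Q.eval b) :
    ∃ (N : ℕ) (c : ℕ → k), ∀ a, Q.eval a = ∑ i ∈ Finset.range N, c i * a ^ p ^ i := by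
  suffices h : ∀ (d : ℕ) (Q : k[X]), Q.natDegree ≤ d → (∀ a b, Q.eval (a + b) = Q.eval a + Q.eval b) →
      ∃ (N : ℕ) (c : ℕ → k), ∀ a, Q.eval a = ∑ i ∈ Finset.range N, c i * a ^ p ^ i from h _ Q le_rfl hQ
  intro d
  induction d using Nat.strong_induction_on with
  | _ d ih =>
    intro Q hd hQ
    have h0 : Q.eval 0 = 0 := by simpa using hQ 0 0
    by_cases hdeg : Q.natDegree = 0
    · refine ⟨0, fun _ => 0, fun a => ?_⟩
      rw [eq_C_of_natDegree_eq_zero hdeg, eval_C] at h0 ⊢
      rw [h0, Finset.range_zero, Finset.sum_empty]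
    have htay : ∀ b, taylor b Q = Q + C (Q.eval b) := fun b => Polynomial.funext fun a => by
      rw [taylor_eval, eval_add, eval_C, hQ]
    have hder : Polynomial.derivative Q = C (Q.coeff 1) := Polynomial.funext fun b => by
      rw [eval_C, ← taylor_coeff_one, htay, coeff_add, coeff_C_ne_zero one_ne_zero, add_zero]
    let Q₁ := Q - C (Q.coeff 1) * X
    have hd1 : Polynomial.derivative Q₁ = 0 := by simp [Q₁, hder]
    have hQ1 : ∀ a b, Q₁.eval (a + b) = Q₁.eval a + Q₁.eval b := fun a b => by
      simp only [Q₁, eval_sub, eval_mul, eval_C, eval_X, hQ]; ring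
    have hexp := expand_contract p hd1 (Fact.out : p.Prime).ne_zero
    have hR : ∀ a, Q₁.eval a = (contract p Q₁).eval (a ^ p) := fun a => by
      conv_lhs => rw [← hexp, expand_eval]
    have hRadd : ∀ a b, (contract p Q₁).eval (a + b) = (contract p Q₁).eval a + (contract p Q₁).eval b := fun a b => by
      obtain ⟨a', rfl⟩ := IsAlgClosed.exists_pow_nat_eq a (Fact.out : p.Prime).pos
      obtain ⟨b', rfl⟩ := IsAlgClosed.exists_pow_nat_eq b (Fact.out : p.Prime).pos
      rw [← add_pow_char, ← hR, ← hR, ← hR, hQ1]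
    have hlt : (contract p Q₁).natDegree < d := by
      have h1 : (contract p Q₁).natDegree * p = Q₁.natDegree := by rw [← natDegree_expand, hexp]
      have h2 : Q₁.natDegree ≤ Q.natDegree := by
        refine (natDegree_sub_le _ _).trans (max_le le_rfl ?_)
        exact (natDegree_C_mul_le _ _).trans (natDegree_X.le.trans (Nat.one_le_iff_ne_zero.2 hdeg))
      have h3 := (Fact.out : p.Prime).two_le
      rcases Nat.eq_zero_or_pos (contract p Q₁).natDegree with h | h
      · omega
      · nlinarith
    obtain ⟨N, c, hc⟩ := ih _ hlt _ le_rfl hRadd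
    refine ⟨N + 1, fun i => Nat.casesOn i (Q.coeff 1) c, fun a => ?_⟩
    rw [Finset.sum_range_succ', show Q.eval a = Q₁.eval a + Q.coeff 1 * a by simp [Q₁], hR, hc]
    simp [← pow_mul, pow_succ']

end WittGrpLib
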