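import Groth.Agent.WittGrpLib.Points
import Groth.Agent.WittGrpLib.Vec

/-!
Homomorphisms of Witt groups on rational points: factorisations and polynomial descriptions.
-/

set_option autoImplicit false
set_option linter.style.haveILetI false
set_option backward.isDefEq.respectTransparency false
set_option maxHeartbeats 1000000

noncomputable section

universe u

open CategoryTheory CategoryTheory.Limits MonoidalCategory CartesianMonoidalCategory MonObj AlgebraicGeometry
open WittGrp

namespace WittGrpLib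

variable {p : ℕ} [Fact p.Prime] {k : Type u} [Field k] {n m l : ℕ}

local notation "SK" => Spec (CommRingCat.of k)

/-- Rational points are vectors. -/
def evEquiv : (𝟙_ (Over SK) ⟶ W p n SK) ≃ TruncatedWittVector p n k :=
  Equiv.ofBijective ev ⟨ev_injective, ev_surjective⟩

theorem evEquiv_apply (x : 𝟙_ (Over SK) ⟶ W p n SK) : evEquiv x = ev x := rfl

theorem evEquiv_symm_ev (x : 𝟙_ (Over SK) ⟶ W p n SK) : evEquiv.symm (ev x) = x := evEquiv.symm_apply_apply x

theorem ev_evEquiv_symm (v : TruncatedWittVector p n k) : ev (evEquiv.symm v : 𝟙_ (Over SK) ⟶ W p n SK) = v :=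
  evEquiv.apply_symm_apply v

/-- The map on vectors of rational points of a homomorphism. -/
def evHom (f : W p n SK ⟶ W p m SK) [IsMonHom f] : TruncatedWittVector p n k →+ TruncatedWittVector p m k :=
  AddMonoidHom.mk' (fun v => ev (evEquiv.symm v ≫ f)) fun a b => by
    have : (evEquiv.symm (a + b) : 𝟙_ (Over SK) ⟶ W p n SK) = evEquiv.symm a * evEquiv.symm b := by
      refine (Equiv.symm_apply_eq _).2 ?_
      rw [evEquiv_apply, ev_mul, ev_evEquiv_symm, ev_evEquiv_symm]
    rw [this, MonObj.mul_comp, ev_mul]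

theorem evHom_ev (f : W p n SK ⟶ W p m SK) [IsMonHom f] (x : 𝟙_ _ ⟶ W p n SK) : evHom f (ev x) = ev (x ≫ f) := by
  show ev (evEquiv.symm (ev x) ≫ f) = _
  rw [evEquiv_symm_ev]

theorem evHom_R (h : n ≤ m) (v : TruncatedWittVector p m k) :
    evHom (R p SK h) v = TruncatedWittVector.truncate h v := by
  obtain ⟨x, rfl⟩ := ev_surjective v; rw [evHom_ev, ev_R]

theorem evHom_V (h : n ≤ m) (v : TruncatedWittVector p n k) : evHom (V p SK h) v = shift p h v := by
  obtain ⟨x, rfl⟩ := ev_surjective v; rw [evHom_ev, ev_V]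

theorem evHom_comp (f : W p n SK ⟶ W p m SK) [IsMonHom f] (g : W p m SK ⟶ W p l SK) [IsMonHom g]
    (v : TruncatedWittVector p n k) : evHom (f ≫ g) v = evHom g (evHom f v) := by
  obtain ⟨x, rfl⟩ := ev_surjective v; rw [evHom_ev, evHom_ev, evHom_ev, Category.assoc]

theorem evHom_F (hp : (p : Γ(Spec (CommRingCat.of k), ⊤)) = 0) (v : TruncatedWittVector p n k) :
    evHom (F p n SK hp) v = frob p n (natCast_eq_zero_of_top hp) v := by
  obtain ⟨x, rfl⟩ := ev_surjective v; rw [evHom_ev, ev_F]

theorem evHom_mulC (a : TruncatedWittVector p n k) (v : TruncatedWittVector p n k) :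
    evHom (mulC (truncMap p n (cst k).toRingHom a)) v = a * v := by
  obtain ⟨x, rfl⟩ := ev_surjective v; rw [evHom_ev, ev_mulC]

variable [IsAlgClosed k]

theorem hom_ext_evHom {f g : W p n SK ⟶ W p m SK} [IsMonHom f] [IsMonHom g]
    (h : ∀ v, evHom f v = evHom g v) : f = g :=
  hom_ext_ev fun a => by rw [← evHom_ev, h, evHom_ev]

/-- A homomorphism with values in the shifted vectors factors through the shift. -/
theorem factor_V [CharP k p] (h : n ≤ m) {A : Over SK} [GrpObj A] [Smooth A.hom] (f : A ⟶ W p m SK) [IsMonHom f]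
    (hf : ∀ a : 𝟙_ _ ⟶ A, ∀ i : Fin m, (i : ℕ) < m - n → (ev (a ≫ f)).coeff i = 0) :
    IsMonHom (f ≫ retr p SK h) ∧ (f ≫ retr p SK h) ≫ V p SK h = f := by
  have hj : (f ≫ retr p SK h) ≫ V p SK h = f := by
    refine hom_ext_ev fun a => ?_
    obtain ⟨y, hy⟩ := exists_shift (p := p) h (ev (a ≫ f)) (hf a)
    obtain ⟨b, rfl⟩ := ev_surjective y
    rw [← ev_V] at hy
    rw [← Category.assoc, ← Category.assoc, ← ev_injective hy, Category.assoc b, V_retr, Category.comp_id]
  refine ⟨⟨?_, ?_⟩, hj⟩
  · refine cancel_V h ?_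
    rw [Category.assoc, hj, IsMonHom.one_hom, IsMonHom.one_hom]
  · refine cancel_V h ?_
    rw [Category.assoc, hj, IsMonHom.mul_hom, Category.assoc, IsMonHom.mul_hom, ← Category.assoc,
      tensorHom_comp_tensorHom, hj]

/-- A homomorphism killing the vectors with vanishing restriction factors through the restriction. -/
theorem factor_R (h : n ≤ m) (f : W p m SK ⟶ W p l SK) [IsMonHom f]
    (hf : ∀ v, TruncatedWittVector.truncate h v = 0 → evHom f v = 0) :
    IsMonHom (sect p SK h ≫ f) ∧ R p SK h ≫ sect p SK h ≫ f = f := by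
  have he : ∀ v w, TruncatedWittVector.truncate h v = TruncatedWittVector.truncate h w →
      evHom f v = evHom f w := fun v w e => by
    rw [← sub_eq_zero, ← map_sub, hf _ (by rw [map_sub, e, sub_self])]
  have hs : ∀ x : 𝟙_ _ ⟶ W p n SK, TruncatedWittVector.truncate h (ev (x ≫ sect p SK h)) = ev x := fun x => by
    rw [← ev_R, Category.assoc, sect_R, Category.comp_id]
  refine ⟨?_, hom_ext_ev fun a => ?_⟩
  · let g : TruncatedWittVector p n k → TruncatedWittVector p l k := fun v =>
      ev ((evEquiv.symm v ≫ sect p SK h) ≫ f)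
    have hg : ∀ x, g (ev x) = evHom f (ev (x ≫ sect p SK h)) := fun x => by
      show ev _ = _
      rw [evEquiv_symm_ev, evHom_ev]
    refine isMonHom_of_ev _ (AddMonoidHom.mk' g fun a b => ?_) fun x => ?_
    · obtain ⟨x, rfl⟩ := ev_surjective a
      obtain ⟨y, rfl⟩ := ev_surjective b
      rw [← ev_mul, hg, hg, hg, ← map_add]
      exact he _ _ (by rw [hs, map_add, hs, hs, ev_mul])
    · rw [← Category.assoc, ← evHom_ev]
      exact (hg x).symm
  · rw [← Category.assoc, ← Category.assoc, ← evHom_ev, ← evHom_ev f a]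
    exact he _ _ (by rw [hs, ev_R])

omit [IsAlgClosed k] in
/-- A morphism to the line is given by a polynomial in the components. -/
theorem exists_poly (f : W p n SK ⟶ W p 1 SK) :
    ∃ P : MvPolynomial (Fin n) k, ∀ x : 𝟙_ _ ⟶ W p n SK,
      (ev (x ≫ f)).coeff 0 = MvPolynomial.eval (fun i => (ev x).coeff i) P := by
  let e := AffineSpace.SpecIso (ULift.{u} (Fin n)) (CommRingCat.of k)
  let g : Γ((W p n SK).left, ⊤) := f.left.appTop (coord p 0)
  let P : MvPolynomial (ULift.{u} (Fin n)) k := (Scheme.ΓSpecIso _).hom (e.inv.appTop g)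
  refine ⟨MvPolynomial.rename ULift.down P, fun x => ?_⟩
  have hg : g = MvPolynomial.eval₂ ((W p n SK).hom.appTop.hom.comp (cst k).toRingHom)
      (fun j => coord p j.down) P := by
    have h1 : e.hom.appTop (e.inv.appTop g) = g := by
      rw [← CommRingCat.comp_apply, ← Scheme.Hom.comp_appTop, e.hom_inv_id, Scheme.Hom.id_appTop]; rfl
    conv_lhs => rw [← h1, AffineSpace.SpecIso_hom_appTop]
    rfl
  rw [MvPolynomial.eval_rename, ev, coeff_truncMap, coeff_pts, Over.comp_left, Scheme.Hom.comp_appTop,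
    CommRingCat.comp_apply]
  show (ptFn k).toRingHom (x.left.appTop.hom g) = _
  rw [hg, ← RingHom.comp_apply, MvPolynomial.eval₂_comp_left, MvPolynomial.eval, MvPolynomial.coe_eval₂Hom]
  have hc : ((ptFn k).toRingHom.comp x.left.appTop.hom).comp ((W p n SK).hom.appTop.hom.comp (cst k).toRingHom) =
      RingHom.id k := by
    rw [RingHom.comp_assoc, ← RingHom.comp_assoc (cst k).toRingHom, ← CommRingCat.hom_comp,
      ← Scheme.Hom.comp_appTop, Over.w]
    exact RingHom.ext fun c => by simp [cst, ptFn, Over.tensorUnit_hom]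
  rw [hc]
  refine congrArg (fun v => MvPolynomial.eval₂ _ v P) (funext fun j => ?_)
  simp only [RingHom.comp_apply, Function.comp_apply, ev, coeff_truncMap, coeff_pts]

/-- The morphism with given polynomials as components. -/
def polyHom (P : Fin m → MvPolynomial (Fin n) k) : W p n SK ⟶ W p m SK :=
  mkPt (TruncatedWittVector.mk p fun i =>
    MvPolynomial.eval₂ ((W p n SK).hom.appTop.hom.comp (cst k).toRingHom) (fun j => coord p j) (P i))

omit [IsAlgClosed k] in
theorem coeff_ev_polyHom (P : Fin m → MvPolynomial (Fin n) k) (x : 𝟙_ _ ⟶ W p n SK) (i : Fin m) :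
    (ev (x ≫ polyHom P)).coeff i = MvPolynomial.eval (fun j => (ev x).coeff j) (P i) := by
  rw [ev, pts_comp, polyHom, pts_mkPt, coeff_truncMap, coeff_truncMap, TruncatedWittVector.coeff_mk,
    ← RingHom.comp_apply, MvPolynomial.eval₂_comp_left, MvPolynomial.eval, MvPolynomial.coe_eval₂Hom]
  have hc : ((ptFn k).toRingHom.comp x.left.appTop.hom).comp ((W p n SK).hom.appTop.hom.comp (cst k).toRingHom) =
      RingHom.id k := by
    rw [RingHom.comp_assoc, ← RingHom.comp_assoc (cst k).toRingHom, ← CommRingCat.hom_comp,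
      ← Scheme.Hom.comp_appTop, Over.w]
    exact RingHom.ext fun c => by simp [cst, ptFn, Over.tensorUnit_hom]
  rw [hc]
  refine congrArg (fun v => MvPolynomial.eval₂ _ v (P i)) (funext fun j => ?_)
  simp only [RingHom.comp_apply, Function.comp_apply, ev, coeff_truncMap, coeff_pts]

end WittGrpLib
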