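import Groth.Agent.WittGrpLib.HomLine
import Groth.Agent.WittGrpLib.Additive

/-!
The endomorphisms of a Witt group are generated by scalars, Frobenius and shift.
-/

set_option autoImplicit false
set_option linter.style.haveILetI false
set_option backward.isDefEq.respectTransparency false
set_option maxHeartbeats 1000000

noncomputable section

universe u

open CategoryTheory CategoryTheory.Limits MonoidalCategory CartesianMonoidalCategory MonObj AlgebraicGeometry
open WittGrp

namespace WittGrpLib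

variable {p : ℕ} [Fact p.Prime] {k : Type u} [Field k] [CharP k p] [IsAlgClosed k] {n m : ℕ}

local notation "SK" => Spec (CommRingCat.of k)

/-- The Frobenius endomorphism. -/
abbrev Frb (n : ℕ) : W p n SK ⟶ W p n SK :=
  F p n SK top_natCast_eq_zero

/-- Scalar multiplication. -/
abbrev scal (a : TruncatedWittVector p n k) : W p n SK ⟶ W p n SK := mulC (truncMap p n (cst k).toRingHom a)

/-- The endomorphisms generated by scalars, Frobenius and shift. -/
inductive Gen : (W p n SK ⟶ W p n SK) → Prop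
  | scal (a : TruncatedWittVector p n k) : Gen (scal a)
  | frb : Gen (Frb n)
  | vr : Gen (VR p n SK)
  | one : Gen 1
  | comp {f g : W p n SK ⟶ W p n SK} : Gen f → Gen g → Gen (f ≫ g)
  | mul {f g : W p n SK ⟶ W p n SK} : Gen f → Gen g → Gen (f * g)

theorem evHom_zero_one : evHom (1 : W p n SK ⟶ W p m SK) = 0 := by
  refine AddMonoidHom.ext fun v => ?_
  obtain ⟨x, rfl⟩ := ev_surjective v
  rw [evHom_ev, MonObj.comp_one, ev_one]; rfl

omit [IsAlgClosed k] [CharP k p] in
theorem evHom_mul (f g : W p n SK ⟶ W p m SK) [IsMonHom f] [IsMonHom g] [IsMonHom (f * g)]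
    (v : TruncatedWittVector p n k) : evHom (f * g) v = evHom f v + evHom g v := by
  obtain ⟨x, rfl⟩ := ev_surjective v
  rw [evHom_ev, evHom_ev, evHom_ev, MonObj.comp_mul, ev_mul]

theorem isMonHom_mul (f g : W p n SK ⟶ W p m SK) [IsMonHom f] [IsMonHom g] : IsMonHom (f * g) :=
  isMonHom_of_ev _ (evHom f + evHom g) fun x => by
    rw [MonObj.comp_mul, ev_mul, AddMonoidHom.add_apply, evHom_ev, evHom_ev]

theorem Gen.isMonHom {f : W p n SK ⟶ W p n SK} (h : Gen f) : IsMonHom f := by
  induction h with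
  | scal a => infer_instance
  | frb => infer_instance
  | vr => infer_instance
  | one => exact isMonHom_of_ev _ 0 fun x => by rw [MonObj.comp_one, ev_one]; rfl
  | comp _ _ hf hg => exact inferInstance
  | mul _ _ hf hg => exact isMonHom_mul _ _

/-- A generated endomorphism lifts along the restriction. -/
theorem Gen.lift_R {f : W p n SK ⟶ W p n SK} (h : Gen f) :
    ∃ f' : W p (n + 1) SK ⟶ W p (n + 1) SK, Gen f' ∧
      R p SK (Nat.le_add_right n 1) ≫ f = f' ≫ R p SK (Nat.le_add_right n 1) := by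
  induction h with
  | scal a =>
    let a' : TruncatedWittVector p (n + 1) k :=
      TruncatedWittVector.mk p fun i : Fin (n + 1) => if hi : (i : ℕ) < n then a.coeff ⟨i, hi⟩ else 0
    have ha : TruncatedWittVector.truncate (Nat.le_add_right n 1) a' = a := TruncatedWittVector.ext fun i => by
      rw [TruncatedWittVector.coeff_truncate, TruncatedWittVector.coeff_mk, dif_pos (by simp)]
      congr 1
    refine ⟨_, .scal a', ?_⟩
    rw [mulC_R, ← truncMap_truncateLE, ha]
  | frb => exact ⟨_, .frb, (F_R _ _).symm⟩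
  | vr =>
    refine ⟨_, .vr, ?_⟩
    rw [VR, VR, Category.assoc, ← Category.assoc,
      R_V (c := n + 1) (d := n + 1 + 1) (Nat.le_add_right n 1) (Nat.le_add_right n 1) (Nat.le_add_right (n + 1) 1)
        (Nat.le_add_right (n + 1) 1) (by omega), Category.assoc]
  | one =>
    refine ⟨_, .one, ?_⟩
    rw [MonObj.comp_one, MonObj.one_comp]
  | comp _ _ hf hg =>
    obtain ⟨f', h1, h2⟩ := hf
    obtain ⟨g', h3, h4⟩ := hg
    exact ⟨_, .comp h1 h3, by rw [← Category.assoc, h2, Category.assoc, h4, Category.assoc]⟩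
  | mul _ _ hf hg =>
    obtain ⟨f', h1, h2⟩ := hf
    obtain ⟨g', h3, h4⟩ := hg
    exact ⟨_, .mul h1 h3, by rw [MonObj.comp_mul, h2, h4, MonObj.mul_comp]⟩

/-- A generated endomorphism extends along the shift. -/
theorem Gen.lift_V {f : W p n SK ⟶ W p n SK} (h : Gen f) :
    ∃ f' : W p (n + 1) SK ⟶ W p (n + 1) SK, Gen f' ∧
      f ≫ V p SK (Nat.le_add_right n 1) = V p SK (Nat.le_add_right n 1) ≫ f' := by
  induction h with
  | scal a =>
    let a' : TruncatedWittVector p (n + 1) k := TruncatedWittVector.mk p fun i : Fin (n + 1) =>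
      if hi : (i : ℕ) < n then (frobeniusEquiv k p).symm (a.coeff ⟨i, hi⟩) else 0
    have hp : (p : Γ(Spec (CommRingCat.of k), ⊤)) = 0 := top_natCast_eq_zero
    have ha : TruncatedWittVector.truncate (Nat.le_add_right n 1)
        (frob p (n + 1) hp (truncMap p (n + 1) (cst k).toRingHom a')) = truncMap p n (cst k).toRingHom a :=
      TruncatedWittVector.ext fun i => by
        rw [TruncatedWittVector.coeff_truncate, coeff_frob, coeff_truncMap, coeff_truncMap, ← map_pow,
          TruncatedWittVector.coeff_mk, dif_pos (by simp), frobeniusEquiv_symm_pow_p]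
        congr 2
    refine ⟨_, .scal a', ?_⟩
    rw [← mulC_V hp, ha]
  | frb => exact ⟨_, .frb, F_V _ _⟩
  | vr =>
    refine ⟨_, .vr, ?_⟩
    rw [VR, VR, Category.assoc,
      R_V (c := n + 1) (d := n + 1 + 1) (Nat.le_add_right n 1) (Nat.le_add_right n 1) (Nat.le_add_right (n + 1) 1)
        (Nat.le_add_right (n + 1) 1) (by omega), ← Category.assoc]
  | one =>
    refine ⟨_, .one, ?_⟩
    rw [MonObj.comp_one, MonObj.one_comp]
  | comp _ _ hf hg =>
    obtain ⟨f', h1, h2⟩ := hf
    obtain ⟨g', h3, h4⟩ := hg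
    exact ⟨_, .comp h1 h3, by rw [Category.assoc, h4, ← Category.assoc, h2, Category.assoc]⟩
  | mul _ _ hf hg =>
    obtain ⟨f', h1, h2⟩ := hf
    obtain ⟨g', h3, h4⟩ := hg
    exact ⟨_, .mul h1 h3, by rw [MonObj.mul_comp, h2, h4, MonObj.comp_mul]⟩

/-- An iterate of the Frobenius is generated. -/
theorem exists_gen_pow (hn : 0 < n) (i : ℕ) (c : k) : ∃ f : W p n SK ⟶ W p n SK, Gen f ∧
    ∀ x : 𝟙_ _ ⟶ W p n SK, (ev (x ≫ f)).coeff ⟨0, hn⟩ = c * (ev x).coeff ⟨0, hn⟩ ^ p ^ i := by
  induction i with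
  | zero =>
    let a : TruncatedWittVector p n k := TruncatedWittVector.mk p fun _ => c
    refine ⟨_, .scal a, fun x => ?_⟩
    rw [ev_mulC, pow_zero, pow_one]
    obtain ⟨A, hA⟩ := WittVector.truncate_surjective p n k a
    obtain ⟨B, hB⟩ := WittVector.truncate_surjective p n k (ev x)
    rw [← hA, ← hB, ← map_mul, WittVector.coeff_truncate, WittVector.coeff_truncate, WittVector.mul_coeff_zero,
      ← WittVector.coeff_truncate (n := n) A ⟨0, hn⟩, hA, TruncatedWittVector.coeff_mk]
  | succ i ih =>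
    obtain ⟨f, hf, h⟩ := ih
    refine ⟨_, .comp .frb hf, fun x => ?_⟩
    rw [← Category.assoc, h, coeff_ev_F, ← pow_mul, pow_succ']

/-- Every endomorphism is generated. -/
theorem gen_of_isMonHom : ∀ {n : ℕ} (φ : W p n SK ⟶ W p n SK), IsMonHom φ → Gen φ := by
  intro n
  induction n with
  | zero =>
    intro φ _
    have : φ = 1 := ext_pts (TruncatedWittVector.ext fun i => i.elim0)
    exact this ▸ .one
  | succ n ih =>
    intro φ hφ
    have h1 : 1 ≤ n + 1 := by omega
    obtain ⟨g, ⟨hg, hfac⟩, -⟩ := existsUnique_factor_R h1 le_rfl (φ ≫ R p SK h1)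
    obtain ⟨P, hP⟩ := exists_poly g
    let Q : Polynomial k := MvPolynomial.aeval (fun _ : Fin 1 => Polynomial.X) P
    have hQ : ∀ x : 𝟙_ _ ⟶ W p 1 SK, (ev (x ≫ g)).coeff 0 = Q.eval ((ev x).coeff 0) := fun x => by
      rw [hP, show Q.eval ((ev x).coeff 0) = MvPolynomial.eval (fun _ : Fin 1 => (ev x).coeff 0) P by
        show (Polynomial.aeval ((ev x).coeff 0)) (MvPolynomial.aeval (fun _ : Fin 1 => Polynomial.X) P) = _
        rw [← AlgHom.comp_apply, MvPolynomial.comp_aeval, MvPolynomial.aeval_eq_eval]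
        simp]
      exact congrArg (fun v => MvPolynomial.eval v P) (funext fun i => by rw [Subsingleton.elim i 0])
    obtain ⟨N, c, hc⟩ := exists_sum_frobenius (p := p) Q fun a b => by
      obtain ⟨x, hx⟩ := ev_surjective (p := p) (k := k) (TruncatedWittVector.mk p fun _ : Fin 1 => a)
      obtain ⟨y, hy⟩ := ev_surjective (p := p) (k := k) (TruncatedWittVector.mk p fun _ : Fin 1 => b)
      have hadd : ∀ s t : TruncatedWittVector p 1 k, (s + t).coeff 0 = s.coeff 0 + t.coeff 0 := fun s t => by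
        obtain ⟨A, rfl⟩ := WittVector.truncate_surjective p 1 _ s
        obtain ⟨B, rfl⟩ := WittVector.truncate_surjective p 1 _ t
        rw [← map_add, WittVector.coeff_truncate, WittVector.coeff_truncate, WittVector.coeff_truncate]
        exact WittVector.add_coeff_zero A B
      have e := hQ (x * y)
      rw [MonObj.mul_comp, ev_mul, ev_mul, hadd, hadd, hQ, hQ, hx, hy, TruncatedWittVector.coeff_mk,
        TruncatedWittVector.coeff_mk] at e
      exact e.symm
    obtain ⟨Φ, hΦ, hΦc⟩ : ∃ Φ : W p (n + 1) SK ⟶ W p (n + 1) SK, Gen Φ ∧ ∀ x : 𝟙_ _ ⟶ W p (n + 1) SK,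
        (ev (x ≫ Φ)).coeff 0 = ∑ i ∈ Finset.range N, c i * (ev x).coeff 0 ^ p ^ i := by
      clear hc
      induction N with
      | zero => exact ⟨1, .one, fun x => by simp [ev_one]⟩
      | succ N ihN =>
        obtain ⟨Φ, h1, h2⟩ := ihN
        obtain ⟨f, h3, h4⟩ := exists_gen_pow (n := n + 1) n.succ_pos N (c N)
        refine ⟨_, .mul h1 h3, fun x => ?_⟩
        have h4' := h4 x
        simp only [Fin.zero_eta] at h4'
        rw [MonObj.comp_mul, ev_mul, Finset.sum_range_succ, ← h2 x, ← h4']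
        obtain ⟨A, hA⟩ := WittVector.truncate_surjective p (n + 1) k (ev (x ≫ Φ))
        obtain ⟨B, hB⟩ := WittVector.truncate_surjective p (n + 1) k (ev (x ≫ f))
        rw [← hA, ← hB, ← map_add, WittVector.coeff_truncate, WittVector.coeff_truncate, WittVector.coeff_truncate]
        exact WittVector.add_coeff_zero A B
    haveI := hΦ.isMonHom
    let θ := φ * Φ⁻¹
    haveI : IsMonHom θ := isMonHom_mul _ _
    have hθ : θ * Φ = φ := inv_mul_cancel_right φ Φ
    have hzero : ∀ a : 𝟙_ _ ⟶ W p (n + 1) SK, ∀ i : Fin (n + 1), (i : ℕ) < n + 1 - n →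
        (ev (a ≫ θ)).coeff i = 0 := fun a i hi => by
      have hi0 : i = 0 := Fin.ext (by simp only [Fin.val_zero]; omega)
      subst hi0
      have e1 : (ev (a ≫ φ)).coeff 0 = (ev (a ≫ Φ)).coeff 0 := by
        rw [hΦc, ← hc]
        have e2 : TruncatedWittVector.truncate h1 (ev (a ≫ φ)) = ev ((a ≫ R p SK h1) ≫ g) := by
          rw [← ev_R, Category.assoc, Category.assoc, hfac]
        have e3 := congrArg (fun v : TruncatedWittVector p 1 k => v.coeff 0) e2
        simp only [hQ, ev_R, TruncatedWittVector.coeff_truncate] at e3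
        exact e3
      have e4 : ev (a ≫ φ) = ev (a ≫ θ) + ev (a ≫ Φ) := by rw [← ev_mul, ← MonObj.comp_mul, hθ]
      obtain ⟨A, hA⟩ := WittVector.truncate_surjective p (n + 1) k (ev (a ≫ θ))
      obtain ⟨B, hB⟩ := WittVector.truncate_surjective p (n + 1) k (ev (a ≫ Φ))
      rw [e4, ← hA, ← hB, ← map_add, WittVector.coeff_truncate, WittVector.coeff_truncate] at e1
      rw [← hA, WittVector.coeff_truncate]
      have e5 := WittVector.add_coeff_zero A B
      have e6 : (A + B).coeff 0 = B.coeff 0 := e1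
      show A.coeff 0 = 0
      linear_combination e6 - e5
    obtain ⟨hθ'', hfV⟩ := factor_V (Nat.le_add_right n 1) θ hzero
    haveI := hθ''
    obtain ⟨ψ, ⟨hψ, hψR⟩, -⟩ :=
      existsUnique_factor_R (Nat.le_add_right n 1) le_rfl (θ ≫ retr p SK (Nat.le_add_right n 1))
    obtain ⟨ψ', hψ'g, hψ'⟩ := (ih ψ hψ).lift_R
    have hθg : θ = ψ' ≫ VR p (n + 1) SK := by
      rw [← hfV, ← hψR, hψ', VR, Category.assoc,
        R_V (c := n + 1) (d := n + 1 + 1) (Nat.le_add_right n 1) (Nat.le_add_right n 1) (Nat.le_add_right (n + 1) 1)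
        (Nat.le_add_right (n + 1) 1) (by omega)]
    rw [← hθ, hθg]
    exact .mul (.comp hψ'g .vr) hΦ

end WittGrpLib
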